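import Cfsg.Agent.TH.Ex.Ab.Defs_m3
import Cfsg.Agent.TH.Sv.ClDat_m3
import Cfsg.Agent.H181.StdBasis
import Cfsg.Agent.DS.Nt.Kac
import Cfsg.Agent.Lib.FinFast
import Cfsg.Agent.Cam.Ex.Chi_m3
import Cfsg.Agent.H994.KE.Base_m3
import Cfsg.Agent.H900.Fra.Wey
import Cfsg.Agent.FastGrp
import Cfsg.Agent.Prune
set_option linter.all false

section
prune_inst 0x7ffdeafafbf8fddfdfff7e7fae9edffc19919fffe6dff9433fe021ff0b9f03000dc12b8d89e000fc1ee662b410387843f9ffdfffea6bd87ffffd1ff41ffbee0fa5e7b508519488340fb80ff603f0778a7f3fffffffffffffffffffffffffffbefffdfffffffd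

-- part: TH/Cl/FldSO/Main
section
prune_inst 0x1000400000000018001000000200600001020040880000800c040108200020000001008000101000000800000000000000000000000000000000000000000000000000000000400000000000400000000000000000000000000000000000000000000
set_option linter.all false
open scoped Cfsg.Agent.FastGrp

-- part: TH/Cl/FldSO/Gen
section
/-!
# S3541, symplectic and orthogonal groups, invariant commutative subrings: tools (helper94)

`Syl` : the Sylow argument for groups of isometries; `SO` : what is used about symplectic and orthogonal groups.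
-/

set_option autoImplicit false
set_option linter.unusedSectionVars false

namespace Cfsg.Agent.TH.Cl.FSO

open Cfsg.Agent.DS.Cl Cfsg.Agent.DS.Cl.Fwd Cfsg.Agent.SB.Cl Cfsg.Agent.SB.C2 Cfsg.Agent.TH.Cl.Fld Module

local notation "cA" => Cfsg.Agent.DS.Cl.cj

theorem exists_lift {Y Γ : Type*} [Group Y] [Group Γ] [Finite Y] (φ : Y →* Γ) {s : ℕ} (hs : s.Prime) {M : Subgroup Y}
    {P : Subgroup Γ} (hP : IsPGroup s P) (h : P ≤ M.map φ) : ∃ X ≤ M, IsPGroup s X ∧ X.map φ = P := by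
  have : Fact s.Prime := ⟨hs⟩
  obtain ⟨Q⟩ : Nonempty (Sylow s ↥(M ⊓ P.comap φ)) := inferInstance
  let f : ↥(M ⊓ P.comap φ) →* P := (φ.comp (M ⊓ P.comap φ).subtype).codRestrict P fun x => x.2.2
  have hf : Function.Surjective f := fun g => by
    obtain ⟨x, hx, e⟩ := h g.2
    exact ⟨⟨x, hx, show φ _ ∈ P by rw [e]; exact g.2⟩, Subtype.ext e⟩
  have : Finite P := Finite.of_surjective f hf
  have h1 : (Q : Subgroup ↥(M ⊓ P.comap φ)).map f = ⊤ :=
    ((Q.mapSurjective hf).is_maximal' (hP.to_subgroup ⊤) le_top).symm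
  refine ⟨(Q : Subgroup ↥(M ⊓ P.comap φ)).map (Subgroup.subtype _), (Subgroup.map_subtype_le _).trans inf_le_left,
    Q.isPGroup'.map _, le_antisymm ?_ fun g hg => ?_⟩
  · rintro _ ⟨_, ⟨x, -, rfl⟩, rfl⟩
    exact x.2.2
  · obtain ⟨y, hy, e⟩ := h1.ge (Subgroup.mem_top ⟨g, hg⟩)
    exact ⟨y, ⟨y, hy, rfl⟩, congrArg Subtype.val e⟩

section ring

variable {A : Type} [Ring A] [StarRing A] [Finite A]

/-- a `p`-group of isometries commuting with `Z`, of index at most `r` in the unipotent groups it normalises -/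
structure Syl (F : FR A) (Z : Set A) (r p : ℕ) (P : Subgroup Aˣ) : Prop where
  prime : p.Prime
  char : (p : A) = 0
  pg : IsPGroup p P
  iso : P ≤ F.Iso
  comm : ∀ u ∈ P, ∀ z ∈ Z, (u : A) * z = z * u
  fam : ∀ J : NonUnitalSubring A, (∀ j ∈ J, IsNilpotent j) → (∀ j ∈ J, ∀ z ∈ Z, z * j = j * z) →
    (∀ u ∈ P, ∀ j ∈ J, cA A u j ∈ J) → ∀ e : A, (∀ u ∈ P, (u : A) * e = e * u) → ∀ (X : Type) (w : X → Aˣ),
      (∀ a, w a ∈ (⁅F.Iso, F.Iso⁆ : Subgroup Aˣ)) → (∀ a, (w a : A) - 1 ∈ J) →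
        (∀ a b, cA A (w a) e = cA A (w b) e → a = b) → Nat.card X ≤ r

/-- for every point there is such a group fixing it -/
def AllSyl (F : FR A) (Z : Set A) (r p : ℕ) : Prop := ∀ g ∈ (⁅F.Iso, F.Iso⁆ : Subgroup Aˣ),
  ∃ P, Syl F Z r p P ∧ ∀ u ∈ P, ∀ z ∈ Z, (u : A) * cA A g z = cA A g z * u

theorem allSyl {F : FR A} {G H : Subgroup (RingAut A)} {m p : ℕ} (c : Ctx F G H m p) {Z : Set A} (hZ : _root_.Cfsg.Agent.DS.Cl.Inv H Z)
    (hS : ¬ _root_.Cfsg.Agent.DS.Cl.Inv F.S Z) {r : ℕ} (hr : ∀ M : Subgroup (RingAut A), M ≤ H ⊓ F.S → (DS.Cl.Fix Z).relIndex M ≤ r) :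
    AllSyl F Z r p := fun g hg => by
  obtain ⟨P, p1, p2, p3, p4, p5⟩ := core' c hZ hS hr (c.S_le (cj_mem_S hg))
  obtain ⟨X, x1, x2, rfl⟩ := exists_lift (cA A) c.prime p1 p2
  have h1 : ∀ (u : Aˣ) (e : A), cA A u e = e → (u : A) * e = e * u := fun u e he => by rw [← cj_mul_eq, he]
  refine ⟨X, ⟨c.prime, c.char, x2, x1.trans F.comm_le_Iso, fun u hu z hz => h1 u z (p3 ⟨u, hu, rfl⟩ z hz),
    fun J j1 j2 j3 e he Y w w1 => p5 J j1 j2 ?_ e ?_ Y w fun a => cj_mem_S (w1 a)⟩,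
    fun u hu z hz => h1 u _ (p4 ⟨u, hu, rfl⟩ _ ⟨z, hz, rfl⟩)⟩
  · rintro _ ⟨u, hu, rfl⟩
    exact j3 u hu
  · rintro _ ⟨u, hu, rfl⟩
    exact cj_eq_of_mul (he u hu)

end ring

variable {K V : Type} [Field K] [Fintype K] [AddCommGroup V] [Module K V] [Finite V] {h : HF K V} {F : FR h.EB}

theorem Syl.fix {Z : Set h.EB} {r p : ℕ} {P : Subgroup h.EBˣ} (S : Syl F Z r p P) (M : AddSubgroup V)
    (hM : ∀ u ∈ P, ∀ x ∈ M, h.ap u x ∈ M) {y : V} (hy : y ∈ M) (y0 : y ≠ 0) :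
    ∃ x ∈ M, x ≠ 0 ∧ ∀ u ∈ P, h.ap u x = x := by
  have : Fact p.Prime := ⟨S.prime⟩
  let : MulAction P M :=
    { smul := fun u x => ⟨h.ap u.1 x, hM _ u.2 _ x.2⟩
      one_smul := fun _ => rfl
      mul_smul := fun _ _ _ => rfl }
  have h0 : p • y = 0 := by
    have h1 : h.ap (p : h.EB) y = 0 := by rw [S.char]; rfl
    rw [← h1]
    exact (Module.End.natCast_apply (R := K) p y).symm
  have h1 : addOrderOf (⟨y, hy⟩ : M) = p := addOrderOf_eq_prime (Subtype.ext h0) fun e => y0 (congrArg Subtype.val e)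
  obtain ⟨x, hx, hx0⟩ := S.pg.exists_fixed_point_of_prime_dvd_card_of_fixed_point M (h1 ▸ addOrderOf_dvd_natCard _)
    (a := 0) fun u => Subtype.ext (map_zero (h.ap u.1))
  exact ⟨x, x.2, fun e => hx0 (Subtype.ext e.symm), fun u hu => congrArg Subtype.val (hx ⟨u, hu⟩)⟩

theorem ro_ind (T : h.EB → Prop) (h0 : T 0) (h1 : ∀ a b, T a → T b → T (a + b)) (h2 : ∀ u v, T (h.eb (h.ro u v)))
    (a : h.EB) : T a := by
  let S : AddSubgroup (End K V) :=
    { carrier := {a | T (h.eb a) ∧ T (-h.eb a)}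
      add_mem' := fun ha hb => ⟨h1 _ _ ha.1 hb.1, by
        have h3 := h1 _ _ ha.2 hb.2
        rwa [← neg_add] at h3⟩
      zero_mem' := ⟨h0, by rw [show h.eb 0 = 0 from rfl, neg_zero]; exact h0⟩
      neg_mem' := fun {a} ha => ⟨ha.2, by rw [show h.eb (-a) = -h.eb a from rfl, neg_neg]; exact ha.1⟩ }
  refine (h.eq_top_of_ro S (fun u v => ⟨h2 u v, ?_⟩) a).1
  rw [show -h.eb (h.ro u v) = h.eb (h.ro (-u) v) from h.ap_ext fun x => (smul_neg _ _).symm]
  exact h2 _ _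

variable (h F) in
/-- the quadratic form (`κ = 1`), or zero (`κ = 0`) -/
def qf (κ : K) (x : V) : K := κ * h.b x (h.ap F.l x)

variable (h F) in
/-- symplectic and orthogonal groups -/
structure SO (s κ : K) : Prop where
  tau : ∀ c, h.τ c = c
  sw : ∀ u v, h.b v u = s * h.b u v
  alt : (s = -1 ∧ κ = 0) ∨ (s = 1 ∧ κ = 1)
  L : ∀ x ∈ F.L, ∀ v, κ * h.b v (h.ap x v) = 0
  eich : ∀ e t, qf h F κ e = 0 → h.b t e = 0 → Eich h F e t s (qf h F κ t)
  uni : ∀ n l : h.EB, F.l - l ∈ F.L → n * n = 0 → star n * n = 0 → (∀ x, qf h F κ (h.ap n x) = 0) →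
    ∃ g ∈ (⁅F.Iso, F.Iso⁆ : Subgroup h.EBˣ), (g : h.EB) = 1 + n - star n - n * l * star n

theorem l_add {A : Type} [Ring A] [StarRing A] {F : FR A} {l : A} (hl : F.l - l ∈ F.L) : l + star l = 1 := by
  have h1 := F.star_eq_neg hl
  rw [star_sub, neg_sub, sub_eq_sub_iff_add_eq_add, add_comm, F.l_add] at h1
  exact h1.symm

theorem KSp.so {k : ℕ} (o : KSp h F k) : SO h F (-1) 0 := by
  refine ⟨o.sp.1, fun u v => by rw [IsSp.swap o.sp, neg_one_mul], Or.inl ⟨rfl, rfl⟩, fun _ _ _ => zero_mul _,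
    fun e t _ ht => o.eich ht _, fun n l hl h1 h2 _ => ?_⟩
  have h3 : star n * star n = 0 := by rw [← star_mul, h1, star_zero]
  have h4 : (1 + n - star n - n * l * star n) * star (1 + n - star n - n * l * star n) = 1 := by
    have a1 : ∀ x, n * (n * x) = 0 := fun x => by rw [← mul_assoc, h1, zero_mul]
    have a2 : ∀ x, star n * (n * x) = 0 := fun x => by rw [← mul_assoc, h2, zero_mul]
    simp only [star_sub, star_add, star_one, star_mul, star_star, eq_sub_of_add_eq' (l_add hl), mul_sub, sub_mul,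
      mul_add, add_mul, mul_assoc, one_mul, mul_one, h1, h2, h3, a1, a2, mul_zero]
    abel
  exact ⟨mkU _ h4, o.mem_comm (mem_Iso_max o.sp.2.2 h4), rfl⟩

theorem KO.so {Q : QuadraticForm K V} (o : KO h F Q) : SO h F 1 1 := by
  have hq : ∀ x, qf h F 1 x = Q x := fun x => by rw [qf, one_mul, o.o.2.2.2]
  have : Nontrivial V := Module.nontrivial_of_finrank_pos (R := K) (by have := o.dim; omega)
  refine ⟨o.o.1, fun u v => by rw [SB.Tor.O_symm o.o, one_mul], Or.inr ⟨rfl, rfl⟩,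
    fun x hx v => by rw [one_mul, (SB.Tor.mem_L_O o.o x).1 hx], fun e t he ht => ?_, fun n l hl h1 h2 hn => ?_⟩
  · rw [hq] at he ⊢
    exact o.eich he ht
  simp only [hq] at hn
  have h3 : star n * star n = 0 := by rw [← star_mul, h1, star_zero]
  have a1 : ∀ x, n * (n * x) = 0 := fun x => by rw [← mul_assoc, h1, zero_mul]
  have a2 : ∀ x, star n * (n * x) = 0 := fun x => by rw [← mul_assoc, h2, zero_mul]
  have a3 : ∀ x, star n * (star n * x) = 0 := fun x => by rw [← mul_assoc, h3, zero_mul]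
  have b0 : ∀ u v, h.b (h.ap n u) (h.ap n v) = 0 := fun u v => by
    rw [← h.b_star, ← h.ap_mul, h2]; exact h.zero_right u
  have b1 : ∀ a, ∃ g ∈ (⁅F.Iso, F.Iso⁆ : Subgroup h.EBˣ), ∃ b,
      (g : h.EB) = 1 + n * a * n - star (n * a * n) - n * b * star n := by
    refine ro_ind _ ⟨1, one_mem _, 0, by simp only [_root_.Units.val_one, _root_.MulZeroClass.mul_zero, _root_.MulZeroClass.zero_mul, _root_.add_zero, _root_.star_zero, _root_.sub_zero]⟩ ?_ fun u v => ?_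
    · rintro a a' ⟨g, hg, b, e⟩ ⟨g', hg', b', e'⟩
      refine ⟨g * g', mul_mem hg hg', b + b' + a * n * star n * star a', ?_⟩
      rw [Units.val_mul, e, e']
      simp only [star_add, star_mul, mul_sub, sub_mul, mul_add, add_mul, mul_assoc, one_mul, mul_one, a1, a2, a3, mul_zero]
      abel
    · obtain ⟨g, hg, e⟩ := o.eich (e := h.ap n u) (t := -h.ap (star n) v) (hn u) (by
        rw [← zero_sub, h.sub_left, h.zero_left, h.star_b, ← h.ap_mul, h1, zero_sub, neg_eq_zero]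
        exact h.zero_right v)
      refine ⟨g, hg, h.eb (Q (h.ap (star n) v) • h.ro u u), h.ap_ext fun x => ?_⟩
      simp only [e, star_mul, h.ap_sub, h.ap_add, h.ap_mul, h.ap_one, ap_star_ro, h.ap_eb, h.ro_apply, map_smul,
        LinearMap.smul_apply, o.o.1, QuadraticMap.map_neg, h.b_star, h.star_b]
      rw [← zero_sub, h.sub_right, h.zero_right, h.b_star, SB.Tor.O_symm o.o x]
      module
  have b2 : ∀ a, ∃ g ∈ (⁅F.Iso, F.Iso⁆ : Subgroup h.EBˣ),
      (g : h.EB) = 1 + (n * a * star n - star (n * a * star n)) := by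
    refine ro_ind _ ⟨1, one_mem _, by simp only [_root_.Units.val_one, _root_.MulZeroClass.mul_zero, _root_.MulZeroClass.zero_mul, _root_.star_zero, _root_.sub_self, _root_.add_zero]⟩ ?_ fun u v => ?_
    · rintro a a' ⟨g, hg, e⟩ ⟨g', hg', e'⟩
      refine ⟨g * g', mul_mem hg hg', ?_⟩
      rw [Units.val_mul, e, e']
      simp only [star_add, star_mul, star_star, mul_sub, sub_mul, mul_add, add_mul, mul_assoc, one_mul, mul_one, a2,
        mul_zero]
      abel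
    · obtain ⟨g, hg, e⟩ := o.eich (e := h.ap n v) (t := h.ap n u) (hn v) (b0 u v)
      refine ⟨g, hg, h.ap_ext fun x => ?_⟩
      simp only [e, star_mul, star_star, h.ap_sub, h.ap_add, h.ap_mul, h.ap_one, ap_star_ro, h.ap_eb, h.ro_apply,
        map_smul, o.o.1, h.b_star, h.star_b, hn]
      rw [SB.Tor.O_symm o.o (h.ap n u) x]
      module
  obtain ⟨y, hy⟩ := h.ss.regular n
  obtain ⟨g, hg, b, e⟩ := b1 y
  rw [hy] at e
  have b3 : n * (b - l) * star n ∈ F.L := (SB.Tor.mem_L_O o.o _).2 fun x => by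
    have c1 := (SB.Tor.mem_Iso_O o.o g).1 (F.comm_le_Iso hg) x
    have c2 : h.ap g x = x - h.ap (star n) x + h.ap n (x - h.ap b (h.ap (star n) x)) := by
      rw [e, map_sub, h.ap_sub, h.ap_sub, h.ap_add, h.ap_mul, h.ap_mul, h.ap_one]
      abel
    have c3 := SB.Tor.O_add o.o (x - h.ap (star n) x) (h.ap (star n) x)
    have c4 := (SB.Tor.mem_L_O o.o _).1 hl (h.ap (star n) x)
    have c5 : h.ap (star n) (h.ap (star n) x) = 0 := by rw [← h.ap_mul, h3]; rfl
    rw [c2, SB.Tor.O_add o.o, hn, ← h.star_b, map_sub (h.ap (star n)), c5, sub_zero, h.sub_right] at c1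
    rw [sub_add_cancel, h.sub_left, SB.Tor.O_self o.o, SB.Tor.O_symm o.o x] at c3
    rw [h.ap_sub, h.sub_right, o.o.2.2.2] at c4
    rw [h.ap_mul, h.ap_mul, ← h.star_b, h.ap_sub, h.sub_right]
    linear_combination c4 - c1 - c3
  rw [o.o.2.2.1] at b3
  obtain ⟨a, ha⟩ := b3
  obtain ⟨g', hg', e'⟩ := b2 (y * a * star y)
  have b4 : n * (y * a * star y) * star n - star (n * (y * a * star y) * star n) = n * (b - l) * star n := by
    have c1 : star n * star y * star n = star n := by rw [← star_mul, ← star_mul, ← mul_assoc, hy]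
    calc _ = n * y * (a - star a) * star y * star n := by simp only [star_mul, star_star]; noncomm_ring
      _ = n * y * n * (b - l) * (star n * star y * star n) := by rw [← ha]; noncomm_ring
      _ = _ := by rw [hy, c1]
  refine ⟨g * g', mul_mem hg hg', ?_⟩
  rw [Units.val_mul, e, e', b4]
  simp only [mul_sub, sub_mul, mul_add, add_mul, mul_assoc, one_mul, mul_one, a1, a2, mul_zero]
  abel

end Cfsg.Agent.TH.Cl.FSO
end

-- part: TH/Cl/FldSO/Pair
section
/-!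
# S3541, symplectic and orthogonal groups: no invariant pair of totally singular subspaces (helper94)
-/

set_option autoImplicit false
set_option linter.unusedSectionVars false

namespace Cfsg.Agent.TH.Cl.FSO

open Cfsg.Agent.DS.Cl Cfsg.Agent.DS.Cl.Fwd Cfsg.Agent.SB.Cl Cfsg.Agent.SB.C2 Cfsg.Agent.TH.Cl.Fld Module

local notation "cA" => Cfsg.Agent.DS.Cl.cj

section ring

variable {A : Type} [Ring A] [StarRing A] [Finite A] {F : FR A} {G H : Subgroup (RingAut A)} {m p : ℕ} {ε : A}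

theorem pair_main (c : Ctx F G H m p) (hH : _root_.Cfsg.Agent.DS.Cl.Inv H {ε, star ε}) (h1 : ε * ε = ε) (h2 : ε + star ε = 1) {g g' : Aˣ}
    (hg : g ∈ (⁅F.Iso, F.Iso⁆ : Subgroup Aˣ)) (hg' : g' ∈ (⁅F.Iso, F.Iso⁆ : Subgroup Aˣ)) {φ ψ : A} (e : (g : A) = 1 + φ)
    (e' : (g' : A) = 1 + ψ) (a1 : ε * φ = φ) (a2 : φ * ε = 0) (a3 : ε * ψ = 0) (a4 : ψ * ε = ψ) (a5 : φ ≠ 0) {X : Type}
    (x : X → A) (hx : Function.Injective x) (x1 : ∀ a, x a * ε = x a ∧ φ * ψ * x a = -x a ∧ x a * (φ * ψ) = 0)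
    (x2 : ∀ a, ∃ w ∈ (⁅F.Iso, F.Iso⁆ : Subgroup Aˣ), (w : A) = 1 + (x a - star (x a))) : Nat.card X ≤ 2 := by
  have s1 : star ε = 1 - ε := eq_sub_of_add_eq' h2
  have s2 : ε * star ε = 0 := by rw [s1, mul_sub, h1, mul_one, sub_self]
  have s3 : star ε * ε = 0 := by rw [s1, sub_mul, h1, one_mul, sub_self]
  have i1 : ∀ {u : Aˣ} {z : A}, (u : A) = 1 + z → z * z = 0 → ((u⁻¹ : Aˣ) : A) = 1 - z := fun hu hz =>
    (Units.eq_inv_of_mul_eq_one_left (by rw [hu, add_mul, mul_sub, mul_sub, hz]; simp)).symm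
  have b1 : cA A g ε = ε - φ := by
    rw [cj_apply, i1 e (by rw [← a1, mul_assoc, ← mul_assoc φ, a2, zero_mul, mul_zero]), e, add_mul, a2, one_mul,
      add_zero, mul_sub, mul_one, a1]
  have b2 : ε * cA A (g' * g) ε * ε = ε + φ * ψ := by
    rw [map_mul, ra_mul, b1, cj_apply, i1 e' (by rw [← a4, mul_assoc, ← mul_assoc ε, a3, zero_mul, mul_zero]), e',
      ← mul_assoc, ← mul_assoc, mul_add, a3, mul_assoc, sub_mul, a4, add_zero, mul_one, mul_sub ε, h1, a1, one_mul,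
      sub_mul, mul_sub, mul_sub, h1, a2, a3]
    abel
  have hS : ¬ _root_.Cfsg.Agent.DS.Cl.Inv F.S {ε, star ε} := fun hS => by
    rcases hS _ (cj_mem_S hg) ε (Or.inl rfl) with h3 | h3 <;> rw [b1] at h3
    · exact a5 (sub_eq_self.1 h3)
    · have h4 := congrArg (star ε * ·) (show ε - φ = star ε from h3)
      simp only [mul_sub, s3, ← star_mul, h1] at h4
      rw [← a1, ← mul_assoc, s3, zero_mul, sub_zero] at h4
      rw [← h4, add_zero] at h2
      exact a5 (by rw [← a2, h2, mul_one])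
  obtain ⟨P, S, hP⟩ := allSyl c hH hS (r := 2) (fun M hM => by
    have k1 : ∀ γ : M, γ.1 ε = ε ∨ γ.1 ε = star ε := fun γ => hH _ (hM γ.2).1 ε (Or.inl rfl)
    rw [← Nat.card_eq_two_iff.2 ⟨True, False, true_ne_false, eq_top_iff.2 fun a _ => by by_cases a <;> simp [*]⟩]
    refine Nat.card_le_card_of_injective (fun y : M ⧸ (DS.Cl.Fix {ε, star ε}).subgroupOf M => y.out.1 ε = ε)
      fun y z hyz => ?_
    have k2 : y.out.1 ε = z.out.1 ε := by
      by_cases k2 : y.out.1 ε = ε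
      · exact k2.trans (Eq.mp hyz k2).symm
      · exact ((k1 _).resolve_left k2).trans ((k1 _).resolve_left fun k3 => k2 (Eq.mpr hyz k3)).symm
    have k3 : (y.out.1⁻¹ * z.out.1) ε = ε := by rw [ra_mul, ← k2, ra_inv_apply]
    rw [← y.out_eq', ← z.out_eq', QuotientGroup.eq]
    rintro _ (rfl | rfl)
    · exact k3
    · exact (c.le_SAut (hM (y.out⁻¹ * z.out).2).1 ε).trans (congrArg star k3)) _ (mul_mem hg' hg)
  have b3 : ∀ u ∈ P, (u : A) * (φ * ψ) = φ * ψ * u := fun u hu => by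
    have k1 := S.comm u hu ε (Or.inl rfl)
    have k2 := hP u hu ε (Or.inl rfl)
    have k3 : (u : A) * (ε + φ * ψ) = (ε + φ * ψ) * u := by
      rw [← b2, ← mul_assoc, ← mul_assoc, k1, mul_assoc ε, k2, mul_assoc, mul_assoc, k1]
      simp only [mul_assoc]
    rwa [mul_add, add_mul, k1, add_right_inj] at k3
  have b4 : ε * (φ * ψ) = φ * ψ := by rw [← mul_assoc, a1]
  have b5 : φ * ψ * ε = φ * ψ := by rw [mul_assoc, a4]
  generalize φ * ψ = π at x1 b3 b4 b5
  have c1 : ∀ {x : A}, π * x = -x → ε * x = x := fun {x} hx => by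
    rw [← neg_inj, ← mul_neg, ← hx, ← mul_assoc, b4]
  have c2 : ∀ {x : A}, x * ε = x → ε * star x = 0 := fun {x} hx => by
    rw [← hx, star_mul, ← mul_assoc, s2, zero_mul]
  have c3 : ∀ {x : A}, π * x = -x → star x * ε = 0 := fun {x} hx => by
    rw [← c1 hx, star_mul, mul_assoc, s3, mul_zero]
  have c4 : ∀ {x y : A}, x * π = 0 → π * y = -y → x * y = 0 := fun {x y} hx hy => by
    rw [← neg_eq_zero, ← mul_neg, ← hy, ← mul_assoc, hx, zero_mul]
  have c5 : ∀ x y : A, x * ε = x ∧ π * x = -x ∧ x * π = 0 → y * ε = y ∧ π * y = -y ∧ y * π = 0 →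
      (x - star x) * (y - star y) = 0 := fun x y hx hy => by
    rw [sub_mul, mul_sub, mul_sub, c4 hx.2.2 hy.2.1, ← star_mul, c4 hy.2.2 hx.2.1, ← hx.1, mul_assoc, c2 hy.1,
      ← c1 hy.2.1, ← mul_assoc, hx.1, c3 hx.2.1]
    simp
  let J : NonUnitalSubring A :=
    { carrier := {j | ∃ x, (x * ε = x ∧ π * x = -x ∧ x * π = 0) ∧ j = x - star x}
      add_mem' := by
        rintro _ _ ⟨x, hx, rfl⟩ ⟨y, hy, rfl⟩
        exact ⟨x + y, ⟨by rw [add_mul, hx.1, hy.1], by rw [mul_add, hx.2.1, hy.2.1, neg_add], by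
          rw [add_mul, hx.2.2, hy.2.2, add_zero]⟩, by rw [star_add]; abel⟩
      zero_mem' := ⟨0, by simp, by simp⟩
      mul_mem' := by
        rintro _ _ ⟨x, hx, rfl⟩ ⟨y, hy, rfl⟩
        exact ⟨0, by simp, by rw [c5 x y hx hy]; simp⟩
      neg_mem' := by
        rintro _ ⟨x, hx, rfl⟩
        exact ⟨-x, ⟨by rw [neg_mul, hx.1], by rw [mul_neg, hx.2.1], by rw [neg_mul, hx.2.2, neg_zero]⟩, by
          rw [star_neg]; abel⟩ }
  choose w w1 w2 using x2
  refine S.fam J ?_ ?_ ?_ π b3 X w w1 (fun a => ⟨x a, x1 a, by rw [w2, add_sub_cancel_left]⟩) fun a b hab => hx ?_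
  · rintro _ ⟨x, hx, rfl⟩
    exact ⟨2, by rw [pow_two, c5 x x hx hx]⟩
  · rintro _ ⟨x, hx, rfl⟩
    have k1 : ε * (x - star x) = (x - star x) * ε := by rw [mul_sub, sub_mul, c1 hx.2.1, hx.1, c2 hx.1, c3 hx.2.1]
    rintro _ (rfl | rfl)
    · exact k1
    · rw [s1, sub_mul, mul_sub _ 1, k1, one_mul, mul_one]
  · rintro u hu _ ⟨x, hx, rfl⟩
    have k1 := cj_eq_of_mul (S.comm u hu ε (Or.inl rfl))
    have k2 := cj_eq_of_mul (b3 u hu)
    exact ⟨cA A u x, ⟨by rw [← k1, ← map_mul, hx.1], by rw [← map_neg, ← hx.2.1, map_mul, k2], by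
      rw [← k2, ← map_mul, hx.2.2, map_zero]⟩, by rw [map_sub, F.Aut_le_SAut (FR.cj_mem_Aut (S.iso hu))]⟩
  · have k1 : ∀ a, cA A (w a) π = π + x a := fun a => by
      rw [cj_apply, i1 (w2 a) (c5 _ _ (x1 a) (x1 a)), w2, add_mul, sub_mul, (x1 a).2.2, ← b4, ← mul_assoc (star _),
        c3 (x1 a).2.1, b4, one_mul, zero_mul, sub_zero, add_zero, mul_sub, mul_sub, (x1 a).2.1, ← b5, mul_assoc π ε (star _),
        c2 (x1 a).1, b5]
      simp
    rwa [k1, k1, add_right_inj] at hab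

theorem pair_l (c : Ctx F G H m p) (hI : Irr H) (hH : _root_.Cfsg.Agent.DS.Cl.Inv H {ε, star ε}) (h2 : ε + star ε = 1) : F.l - ε ∈ F.L := by
  refine FR.mem_L_of_inv c.ss c.le_SAut hI ?_ fun γ hγ => ?_
  · rw [star_sub, eq_sub_of_add_eq' h2, eq_sub_of_add_eq' F.l_add]
    abel
  · have h3 : ε - γ ε ∈ F.L := by
      rcases hH γ hγ ε (Or.inl rfl) with h3 | h3
      · rw [h3, sub_self]; exact zero_mem _
      · rw [show γ ε = star ε from h3]; exact F.sub_star_mem ε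
    convert F.L.add_mem (c.H_le_Aut hγ).2 h3 using 1
    rw [map_sub]
    abel

end ring

variable {K V : Type} [Field K] [Fintype K] [AddCommGroup V] [Module K V] [Finite V] {h : HF K V} {F : FR h.EB} {s κ : K}

theorem SO.ss (o : SO h F s κ) : s * s = 1 := by rcases o.alt with e | e <;> rw [e.1] <;> ring

theorem SO.orth (o : SO h F s κ) {u v : V} (e : h.b u v = 0) : h.b v u = 0 := by rw [o.sw, e, mul_zero]

theorem SO.star_ro (o : SO h F s κ) (u v x : V) : h.ap (star (h.eb (h.ro u v))) x = (s * h.b x u) • v := by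
  rw [ap_star_ro, o.tau, o.sw]

theorem SO.qf_eq (o : SO h F s κ) {l : h.EB} (hl : F.l - l ∈ F.L) (x : V) : qf h F κ x = κ * h.b x (h.ap l x) := by
  have h1 := o.L _ hl x
  rw [h.ap_sub, h.sub_right, mul_sub, sub_eq_zero] at h1
  exact h1

theorem SO.qf_smul (o : SO h F s κ) (c : K) (x : V) : qf h F κ (c • x) = c * c * qf h F κ x := by
  rw [qf, qf, map_smul, h.smul_left, h.smul_right, o.tau]; ring

/-- long root elements -/
theorem SO.nil (o : SO h F s κ) {e t : V} (he : qf h F κ e = 0) (ht : qf h F κ t = 0) (h0 : h.b t e = 0) :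
    ∃ g ∈ (⁅F.Iso, F.Iso⁆ : Subgroup h.EBˣ), (g : h.EB) = 1 + (h.eb (h.ro e t) - star (h.eb (h.ro e t))) := by
  obtain ⟨g, hg, e1⟩ := o.eich e ((-s) • t) he (by rw [h.smul_left, h0, mul_zero])
  refine ⟨g, hg, h.ap_ext fun x => ?_⟩
  rw [e1, o.qf_smul, ht, h.ap_add, h.ap_sub, o.star_ro, h.ap_eb, h.ro_apply, h.ap_one, h.smul_right, o.tau]
  match_scalars
  · ring
  · ring
  · linear_combination h.b x t * o.ss

theorem finrank_le_ker {U : Type} [AddCommGroup U] [Module K U] [Module.Finite K U] (W : Submodule K V) (f : V →ₗ[K] U) :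
    finrank K W ≤ finrank K (LinearMap.ker (f.domRestrict W)) + finrank K U := by
  have : Module.Finite K V := Module.Finite.of_finite
  have h1 := (f.domRestrict W).finrank_range_add_finrank_ker
  have h2 := Submodule.finrank_le (LinearMap.range (f.domRestrict W))
  omega

variable {G H : Subgroup (RingAut h.EB)} {m p : ℕ} {ε : h.EB}

theorem pair_wlog (h1 : ε * ε = ε) (h2 : ε + star ε = 1) : finrank K V ≤ 2 * finrank K (LinearMap.ker (h.ap ε)) ∨
    finrank K V ≤ 2 * finrank K (LinearMap.ker (h.ap (star ε))) := by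
  have : Module.Finite K V := Module.Finite.of_finite
  have h3 := (h.ap ε).finrank_range_add_finrank_ker
  have h4 : LinearMap.range (h.ap ε) ≤ LinearMap.ker (h.ap (star ε)) := by
    rintro _ ⟨x, rfl⟩
    rw [LinearMap.mem_ker, ← h.ap_mul, eq_sub_of_add_eq' h2, sub_mul, h1, one_mul, sub_self]
    rfl
  have h5 := Submodule.finrank_mono h4
  omega

section

variable (o : SO h F s κ) (h1 : ε * ε = ε) (h2 : ε + star ε = 1)
include o h1 h2

omit o h1 in
theorem star_ker {f : V} (hf : h.ap ε f = 0) : h.ap (star ε) f = f := by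
  rw [eq_sub_of_add_eq' h2, h.ap_sub, hf, sub_zero, h.ap_one]

omit o h1 in
theorem star_ran {v : V} (hv : h.ap ε v = v) : h.ap (star ε) v = 0 := by
  rw [eq_sub_of_add_eq' h2, h.ap_sub, hv, h.ap_one, sub_self]

omit o in
theorem exists_dual {f : V} (hf : h.ap ε f = 0) (h0 : f ≠ 0) : ∃ v, h.ap ε v = v ∧ h.b v f = 1 := by
  obtain ⟨u, hu⟩ := h.exists_ne h0
  exact ⟨(h.b u f)⁻¹ • h.ap ε u, by rw [map_smul, ← h.ap_mul, h1], by
    rw [h.smul_left, ← h.b_star, star_ker h2 hf, inv_mul_cancel₀ hu]⟩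

omit h1 in
theorem qf_pair (hl : F.l - ε ∈ F.L) {x : V} (hx : h.ap ε x = x ∨ h.ap ε x = 0) : qf h F κ x = 0 := by
  rw [o.qf_eq hl]
  rcases hx with hx | hx
  · rw [← h.star_b, star_ran h2 hx, h.zero_left, mul_zero]
  · rw [hx, h.zero_right, mul_zero]

/-- the family of transvections of `ε V` -/
theorem pair_vec (c : Ctx F G H m p) (hI : Irr H) (hH : _root_.Cfsg.Agent.DS.Cl.Inv H {ε, star ε}) {g g' : h.EBˣ}
    (hg : g ∈ (⁅F.Iso, F.Iso⁆ : Subgroup h.EBˣ)) (hg' : g' ∈ (⁅F.Iso, F.Iso⁆ : Subgroup h.EBˣ)) {φ ψ : h.EB}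
    (e : (g : h.EB) = 1 + φ) (e' : (g' : h.EB) = 1 + ψ) (a1 : ε * φ = φ) (a2 : φ * ε = 0) (a3 : ε * ψ = 0) (a4 : ψ * ε = ψ)
    {v : V} (v0 : v ≠ 0) (hv : h.ap (φ * ψ) v = -v) {U : Type} [AddCommGroup U] [Module K U] [Module.Finite K U]
    (f : V →ₗ[K] U) (hf : ∀ y, f y = 0 → ∀ x, h.b (h.ap φ x) y = 0) :
    Fintype.card K ^ (finrank K (LinearMap.ker (h.ap ε)) - finrank K U) ≤ 2 := by
  have hl := pair_l c hI hH h2
  have v1 : h.ap ε v = v := by rw [← neg_inj, ← map_neg, ← hv, ← h.ap_mul, ← mul_assoc, a1]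
  have h3 := pair_main c hH h1 h2 hg hg' e e' a1 a2 a3 a4 (fun h0 => v0 (by
      rw [← neg_eq_zero, ← hv, h0, zero_mul]; rfl)) (X := LinearMap.ker (f.domRestrict (LinearMap.ker (h.ap ε))))
    (fun a => h.eb (h.ro v a.1.1)) (fun a b hab => Subtype.ext (Subtype.ext (h.ext_right fun u =>
      smul_left_injective K v0 (LinearMap.congr_fun hab u)))) (fun a => ⟨h.ap_ext fun x => ?_, h.ap_ext fun x => ?_,
      h.ap_ext fun x => ?_⟩) fun a => o.nil (qf_pair o h2 hl (Or.inl v1)) (qf_pair o h2 hl (Or.inr a.1.2)) (o.orth ?_)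
  · refine le_trans (Nat.pow_le_pow_right Fintype.card_pos ?_) (le_of_eq_of_le
      ((Module.natCard_eq_pow_finrank (K := K)).trans (by rw [Nat.card_eq_fintype_card])).symm h3)
    have := finrank_le_ker (LinearMap.ker (h.ap ε)) f
    omega
  · rw [h.ap_mul, h.ap_eb, h.ro_apply, h.ro_apply, ← h.b_star, star_ker h2 a.1.2]
  · rw [h.ap_mul, h.ap_eb, h.ro_apply, map_smul, hv, smul_neg]
    rfl
  · rw [h.ap_mul, h.ap_eb, h.ro_apply, h.ap_mul, hf a.1.1 a.2, zero_smul]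
    rfl
  · rw [← neg_eq_zero, ← zero_sub, ← h.zero_left a.1.1, ← h.sub_left, zero_sub, ← hv, h.ap_mul, hf a.1.1 a.2, h.zero_left]

end

theorem KSp.pair {k : ℕ} (o : KSp h F k) (c : Ctx F G H m p) (hI : Irr H) (hH : _root_.Cfsg.Agent.DS.Cl.Inv H {ε, star ε}) (h1 : ε * ε = ε)
    (h2 : ε + star ε = 1) : False := by
  have hk := o.two
  have hd := o.dim
  wlog h3 : finrank K V ≤ 2 * finrank K (LinearMap.ker (h.ap ε)) generalizing ε
  · exact this (ε := star ε) (by rwa [star_star, Set.pair_comm]) (by rw [← star_mul, h1]) (by rw [star_star, add_comm, h2])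
      ((pair_wlog h1 h2).resolve_left h3)
  have : Nontrivial (LinearMap.ker (h.ap ε)) := Module.nontrivial_of_finrank_pos (R := K) (by omega)
  obtain ⟨⟨f, hf⟩, f0⟩ := exists_ne (0 : LinearMap.ker (h.ap ε))
  obtain ⟨v, hv, hvf⟩ := exists_dual h1 h2 hf fun e => f0 (Subtype.ext e)
  have key : ∀ y, ∃ g ∈ (⁅F.Iso, F.Iso⁆ : Subgroup h.EBˣ), (g : h.EB) = 1 + h.eb (h.ro y y) := fun y => by
    obtain ⟨g, hg, e⟩ := o.eich (e := y) (h.zero_left y) (-1)
    exact ⟨g, hg, h.ap_ext fun x => by rw [e, h.zero_right, h.ap_add, h.ap_eb, h.ro_apply, h.ap_one]; module⟩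
  obtain ⟨g, hg, e⟩ := key v
  obtain ⟨g', hg', e'⟩ := key f
  have h4 := pair_vec (KSp.so o) h1 h2 c hI hH hg hg' e e'
    (h.ap_ext fun x => by rw [h.ap_mul, h.ap_eb, h.ro_apply, map_smul, hv])
    (h.ap_ext fun x => by rw [h.ap_mul, h.ap_eb, h.ro_apply, ← h.b_star, star_ran h2 hv, h.zero_right, zero_smul]; rfl)
    (h.ap_ext fun x => by rw [h.ap_mul, h.ap_eb, h.ro_apply, map_smul, hf, smul_zero]; rfl)
    (h.ap_ext fun x => by rw [h.ap_mul, h.ap_eb, h.ro_apply, h.ro_apply, ← h.b_star, star_ker h2 hf]) (v := v)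
    (fun e => by rw [e, h.zero_left] at hvf; exact zero_ne_one hvf)
    (by rw [h.ap_mul, h.ap_eb, h.ap_eb, h.ro_apply, h.ro_apply, hvf, one_smul, IsSp.swap o.sp, hvf, neg_one_smul])
    (h.lin v) fun y hy x => by
      rw [h.ap_eb, h.ro_apply, h.smul_left, IsSp.swap o.sp y, show h.b y v = 0 from hy, neg_zero, mul_zero]
  rw [finrank_self] at h4
  have h5 : 1 < Fintype.card K := Fintype.one_lt_card
  by_cases h6 : k = 2
  · have h7 := o.ne h6
    have h8 := (Nat.pow_le_pow_right Fintype.card_pos (show 1 ≤ _ by omega)).trans h4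
    rw [pow_one] at h8
    omega
  · have h8 := (Nat.pow_le_pow_right Fintype.card_pos (show 2 ≤ _ by omega)).trans h4
    nlinarith only [h5, h8]

theorem KO.pair {Q : QuadraticForm K V} (o : KO h F Q) (c : Ctx F G H m p) (hI : Irr H) (hH : _root_.Cfsg.Agent.DS.Cl.Inv H {ε, star ε})
    (h1 : ε * ε = ε) (h2 : ε + star ε = 1) : False := by
  have hd := o.dim
  wlog h3 : finrank K V ≤ 2 * finrank K (LinearMap.ker (h.ap ε)) generalizing ε
  · exact this (ε := star ε) (by rwa [star_star, Set.pair_comm]) (by rw [← star_mul, h1]) (by rw [star_star, add_comm, h2])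
      ((pair_wlog h1 h2).resolve_left h3)
  have so := KO.so o
  have hl := pair_l c hI hH h2
  have sy := SB.Tor.O_symm o.o
  have : Nontrivial (LinearMap.ker (h.ap ε)) := Module.nontrivial_of_finrank_pos (R := K) (by omega)
  obtain ⟨⟨f, hf⟩, f0⟩ := exists_ne (0 : LinearMap.ker (h.ap ε))
  obtain ⟨v, hv, hvf⟩ := exists_dual h1 h2 hf fun e => f0 (Subtype.ext e)
  have : Nontrivial (LinearMap.ker ((h.lin v).domRestrict (LinearMap.ker (h.ap ε)))) :=
    Module.nontrivial_of_finrank_pos (R := K) (by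
      have := finrank_le_ker (LinearMap.ker (h.ap ε)) (h.lin v)
      rw [finrank_self] at this
      omega)
  obtain ⟨⟨⟨f', hf'⟩, k1⟩, f0'⟩ := exists_ne (0 : LinearMap.ker ((h.lin v).domRestrict (LinearMap.ker (h.ap ε))))
  replace k1 : h.b f' v = 0 := k1
  obtain ⟨v', hv', k2, k3⟩ : ∃ v', h.ap ε v' = v' ∧ h.b v' f' = 1 ∧ h.b v' f = 0 := by
    obtain ⟨y, hy, k2⟩ := exists_dual h1 h2 hf' fun e => f0' (Subtype.ext (Subtype.ext e))
    exact ⟨y - h.b y f • v, by rw [map_sub, map_smul, hy, hv], by rw [h.sub_left, h.smul_left, sy v, k1, k2]; ring,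
      by rw [h.sub_left, h.smul_left, hvf]; ring⟩
  obtain ⟨g, hg, e⟩ := so.nil (qf_pair so h2 hl (Or.inl hv)) (qf_pair so h2 hl (Or.inl hv'))
    (by rw [← hv', ← h.b_star, star_ran h2 hv, h.zero_right])
  obtain ⟨g', hg', e'⟩ := so.nil (qf_pair so h2 hl (Or.inr hf)) (qf_pair so h2 hl (Or.inr hf'))
    (by rw [← star_ker h2 hf', h.star_b, hf, h.zero_right])
  have k0 : ∀ u v x, h.ap (h.eb (h.ro u v) - star (h.eb (h.ro u v))) x = h.b x v • u - h.b x u • v := fun u v x => by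
    rw [h.ap_sub, so.star_ro, one_mul]; rfl
  have h4 := pair_vec so h1 h2 c hI hH hg hg' e e'
    (h.ap_ext fun x => by rw [h.ap_mul, k0, map_sub, map_smul, map_smul, hv, hv'])
    (h.ap_ext fun x => by
      rw [h.ap_mul, k0, ← h.b_star, ← h.b_star, star_ran h2 hv, star_ran h2 hv', h.zero_right]; simp [SB.Tor.ap_zero])
    (h.ap_ext fun x => by rw [h.ap_mul, k0, map_sub, map_smul, map_smul, hf, hf']; simp [SB.Tor.ap_zero])
    (h.ap_ext fun x => by rw [h.ap_mul, k0, k0, ← h.b_star, ← h.b_star, star_ker h2 hf, star_ker h2 hf']) (v := v)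
    (fun e => by rw [e, h.zero_left] at hvf; exact zero_ne_one hvf)
    (by
      rw [h.ap_mul, k0, k0, sy v f', k1, hvf, zero_smul, one_smul, h.sub_left, h.sub_left, h.zero_left, h.zero_left, k1,
        sy f', k2]
      simp)
    ((h.lin v).prod (h.lin v')) fun y hy x => by
      rw [k0, h.sub_left, h.smul_left, h.smul_left, sy v, sy v', show h.b y v = 0 from congrArg Prod.fst hy,
        show h.b y v' = 0 from congrArg Prod.snd hy]
      ring
  rw [finrank_prod, finrank_self] at h4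
  have h5 : 1 < Fintype.card K := Fintype.one_lt_card
  have h8 := (Nat.pow_le_pow_right Fintype.card_pos (show 2 ≤ _ by omega)).trans h4
  nlinarith only [h5, h8]

end Cfsg.Agent.TH.Cl.FSO
end

-- part: TH/Cl/FldSO/Form
section
/-!
# S3541, symplectic and orthogonal groups: the form over an extension field (helper94)

`f : FE h E` : the field `E` acts on `V`, compatibly with the involution.  `f.β` is the form with values in `E`,
`b = T ∘ β`, `f.av` is the projection onto the ring `f.C` of the `E`-linear maps.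
-/

set_option autoImplicit false
set_option linter.unusedSectionVars false

namespace Cfsg.Agent.TH.Cl.FSO

open Cfsg.Agent.DS.Cl Cfsg.Agent.DS.Cl.Fwd Cfsg.Agent.SB.Cl Cfsg.Agent.SB.C2 Module

variable {K V : Type} [Field K] [Fintype K] [AddCommGroup V] [Module K V] [Finite V]

/-- a field of endomorphisms closed under the involution -/
structure FE (h : HF K V) (E : Type) [Field E] [Module E V] where
  /-- the embedding -/
  ι : E →+* h.EB
  /-- the involution -/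
  σ : E →+* E
  ap_ι : ∀ z v, h.ap (ι z) v = z • v
  star_ι : ∀ z, star (ι z) = ι (σ z)

theorem ap_neg (h : HF K V) (a : h.EB) (v : V) : h.ap (-a) v = -h.ap a v := rfl

theorem ap_sum (h : HF K V) {I : Type} (s : Finset I) (a : I → h.EB) (v : V) :
    h.ap (∑ i ∈ s, a i) v = ∑ i ∈ s, h.ap (a i) v := LinearMap.sum_apply s (fun i => h.ap (a i)) v

namespace FE

variable {h : HF K V} {E : Type} [Field E] [Fintype E] [DecidableEq E] [Algebra K E] [Module E V] [IsScalarTower K E V]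
  (f : FE h E)

/-- the `E`-linear maps -/
def C : Subring h.EB := Subring.centralizer (f.ι.range : Set h.EB)

theorem mem_C {a : h.EB} : a ∈ f.C ↔ ∀ z, f.ι z * a = a * f.ι z :=
  ⟨fun ha z => ha _ ⟨z, rfl⟩, by rintro ha _ ⟨z, rfl⟩; exact ha z⟩

theorem ι_mem (z : E) : f.ι z ∈ f.C := f.mem_C.2 fun y => by rw [← map_mul, ← map_mul, mul_comm]

theorem star_mem {a : h.EB} (ha : a ∈ f.C) : star a ∈ f.C :=
  star_centralizer (by rintro _ ⟨z, rfl⟩; exact ⟨_, (f.star_ι z).symm⟩) a ha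

theorem lin {a : h.EB} (ha : a ∈ f.C) (z : E) (v : V) : h.ap a (z • v) = z • h.ap a v := by
  rw [← f.ap_ι, ← f.ap_ι, ← h.ap_mul, ← h.ap_mul, f.mem_C.1 ha]

theorem b_smul (z : E) (x y : V) : h.b (z • x) y = h.b x (f.σ z • y) := by
  rw [← f.ap_ι, ← f.ap_ι, ← f.star_ι, h.b_star]

/-- the projection onto the `E`-linear maps -/
def av : h.EB →+ h.EB where
  toFun a := -∑ u : Eˣ, f.ι u * a * f.ι (u : E)⁻¹
  map_zero' := by simp only [_root_.MulZeroClass.mul_zero, _root_.MulZeroClass.zero_mul, _root_.Finset.sum_const_zero, _root_.neg_zero]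
  map_add' a b := by simp only [mul_add, add_mul, Finset.sum_add_distrib, neg_add]

theorem av_apply (a : h.EB) : f.av a = -∑ u : Eˣ, f.ι u * a * f.ι (u : E)⁻¹ := rfl

theorem av_mem (a : h.EB) : f.av a ∈ f.C := f.mem_C.2 fun z => by
  by_cases h0 : z = 0
  · simp [h0]
  rw [av_apply, mul_neg, neg_mul, Finset.mul_sum, Finset.sum_mul]
  refine congrArg _ (Fintype.sum_equiv (Equiv.mulLeft (Units.mk0 z h0)) _ _ fun u => ?_)
  rw [Equiv.coe_mulLeft, Units.val_mul, Units.val_mk0, mul_assoc _ (f.ι _) (f.ι z), ← map_mul, mul_inv_rev,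
    inv_mul_cancel_right₀ h0, map_mul]
  simp only [mul_assoc]

theorem av_left {c : h.EB} (hc : c ∈ f.C) (a : h.EB) : f.av (c * a) = c * f.av a := by
  rw [av_apply, av_apply, mul_neg, Finset.mul_sum]
  refine congrArg _ (Finset.sum_congr rfl fun u _ => ?_)
  rw [← mul_assoc, f.mem_C.1 hc]
  simp only [mul_assoc]

theorem av_right {c : h.EB} (hc : c ∈ f.C) (a : h.EB) : f.av (a * c) = f.av a * c := by
  rw [av_apply, av_apply, neg_mul, Finset.sum_mul]
  refine congrArg _ (Finset.sum_congr rfl fun u _ => ?_)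
  rw [mul_assoc _ _ c, f.mem_C.1 hc]
  simp only [mul_assoc]

theorem av_of_mem {c : h.EB} (hc : c ∈ f.C) : f.av c = c := by
  have h1 : ((Fintype.card E - 1 : ℕ) : E) = -1 := by
    rw [Nat.cast_sub Fintype.card_pos, FiniteField.cast_card_eq_zero, Nat.cast_one, zero_sub]
  rw [av_apply, Finset.sum_congr rfl fun (u : Eˣ) _ => (by
      rw [f.mem_C.1 hc, mul_assoc, ← map_mul, mul_inv_cancel₀ u.ne_zero, map_one, mul_one] :
      f.ι u * c * f.ι (u : E)⁻¹ = c), Finset.sum_const, Finset.card_univ, Fintype.card_units, nsmul_eq_mul,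
    ← map_natCast f.ι, h1, map_neg, map_one, neg_one_mul, neg_neg]

/-- the form with values in `E` -/
def β (_f : FE h E) (x y : V) : E := -∑ u : Eˣ, h.b ((u : E)⁻¹ • x) y • (u : E)

/-- the `E`-linear maps of rank one -/
def τ (u y : V) : h.EB := f.av (h.eb (h.ro u y))

theorem τ_mem (u y : V) : f.τ u y ∈ f.C := f.av_mem _

theorem ap_τ (u y x : V) : h.ap (f.τ u y) x = f.β x y • u := by
  rw [τ, av_apply, ap_neg, ap_sum, β, neg_smul, Finset.sum_smul]
  refine congrArg _ (Finset.sum_congr rfl fun t _ => ?_)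
  rw [h.ap_mul, h.ap_mul, f.ap_ι, f.ap_ι, h.ap_eb, h.ro_apply, smul_assoc, smul_comm]

theorem β_add_left (x x' y : V) : f.β (x + x') y = f.β x y + f.β x' y := by
  simp only [β, smul_add, h.add_left, add_smul, Finset.sum_add_distrib, neg_add]

theorem β_add_right (x y y' : V) : f.β x (y + y') = f.β x y + f.β x y' := by
  simp only [β, h.add_right, add_smul, Finset.sum_add_distrib, neg_add]

theorem β_sub_left (x x' y : V) : f.β (x - x') y = f.β x y - f.β x' y := by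
  rw [eq_sub_iff_add_eq, ← β_add_left, sub_add_cancel]

theorem β_sub_right (x y y' : V) : f.β x (y - y') = f.β x y - f.β x y' := by
  rw [eq_sub_iff_add_eq, ← β_add_right, sub_add_cancel]

theorem β_zero_left (y : V) : f.β 0 y = 0 := by simp [β, h.zero_left]

theorem β_zero_right (x : V) : f.β x 0 = 0 := by simp [β, h.zero_right]

theorem β_star {c : h.EB} (hc : c ∈ f.C) (x y : V) : f.β x (h.ap (star c) y) = f.β (h.ap c x) y := by
  simp only [β, h.b_star, f.lin hc]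

theorem star_β {c : h.EB} (hc : c ∈ f.C) (x y : V) : f.β (h.ap (star c) x) y = f.β x (h.ap c y) := by
  rw [← f.β_star (f.star_mem hc), star_star]

theorem β_iso {u : h.EBˣ} (hc : (u : h.EB) ∈ f.C) (hu : (u : h.EB) * star (u : h.EB) = 1) (x y : V) :
    f.β (h.ap u x) (h.ap u y) = f.β x y := by
  rw [← f.β_star hc, ← star_eq_inv hu, SB.Tor.ap_inv_ap]

theorem β_b (x y u u' : V) : h.b (f.β x y • u) u' = h.b (f.β u u' • x) y := by
  have h1 : ∀ x y u u' : V, h.b (f.β x y • u) u' = -∑ t : Eˣ, h.b ((t : E)⁻¹ • x) y * h.b ((t : E) • u) u' :=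
    fun x y u u' => by
    rw [β, neg_smul, Finset.sum_smul, show ∀ z, h.b z u' = h.lin u' z from fun _ => rfl, map_neg, map_sum]
    refine congrArg _ (Finset.sum_congr rfl fun t _ => ?_)
    rw [smul_assoc, map_smul]
    rfl
  rw [h1, h1]
  refine congrArg _ (Fintype.sum_equiv (Equiv.inv Eˣ) _ _ fun t => ?_)
  rw [Equiv.inv_apply, Units.val_inv_eq_inv_val, inv_inv, mul_comm]

variable [Nontrivial V]

theorem ι_inj : Function.Injective f.ι :=
  have : Nontrivial h.EB := h.ss.nontrivial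
  f.ι.injective

theorem σ_σ (z : E) : f.σ (f.σ z) = z := f.ι_inj (by rw [← f.star_ι, ← f.star_ι, star_star])

theorem av_star (a : h.EB) : f.av (star a) = star (f.av a) := by
  let e : Eˣ ≃ Eˣ := Function.Involutive.toPerm (fun u => (Units.map (f.σ : E →* E) u)⁻¹) fun u => Units.ext (by
    simp only [f.σ_σ, _root_.map_inv, _root_.inv_inv, _root_.Units.coe_map, _root_.MonoidHom.coe_coe])
  rw [av_apply, av_apply, star_neg, star_sum]
  refine congrArg _ (Fintype.sum_equiv e _ _ fun u => ?_)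
  have h1 : ((e u : Eˣ) : E) = (f.σ u)⁻¹ := Units.val_inv_eq_inv_val _
  rw [star_mul, star_mul, f.star_ι, f.star_ι, h1, inv_inv, f.σ_σ, map_inv₀ f.σ, f.σ_σ, mul_assoc]

theorem β_smul_left (z : E) (x y : V) : f.β (z • x) y = z * f.β x y := by
  obtain ⟨u, hu⟩ := exists_ne (0 : V)
  refine smul_left_injective E hu ?_
  change _ • u = _ • u
  rw [← f.ap_τ, f.lin (f.τ_mem _ _), f.ap_τ, mul_smul]

theorem β_smul_right (z : E) (x y : V) : f.β x (z • y) = f.σ z * f.β x y := by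
  conv_lhs => rw [← f.σ_σ z, ← f.ap_ι, ← f.star_ι, f.β_star (f.ι_mem _), f.ap_ι, f.β_smul_left]

theorem exists_one : ∃ u : V × V, f.β u.1 u.2 = 1 := by
  by_contra hc
  push Not at hc
  have h1 := ro_ind (h := h) (fun a => f.av a = 0) (map_zero _) (fun a b ha hb => by rw [map_add, ha, hb, add_zero])
    (fun u y => h.ap_ext fun x => by
      by_cases h0 : f.β x y = 0
      · exact (f.ap_τ u y x).trans (by rw [h0, zero_smul]; rfl)
      · exact absurd (by rw [f.β_smul_left, inv_mul_cancel₀ h0]) (hc ((f.β x y)⁻¹ • x, y))) 1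
  rw [f.av_of_mem (one_mem _)] at h1
  have : Nontrivial h.EB := h.ss.nontrivial
  exact one_ne_zero h1

/-- the trace -/
noncomputable def T : E →ₗ[K] K where
  toFun z := h.b (z • f.exists_one.choose.1) f.exists_one.choose.2
  map_add' z z' := by rw [add_smul, h.add_left]
  map_smul' c z := by rw [smul_assoc, h.smul_left]; rfl

theorem b_eq (x y : V) : h.b x y = f.T (f.β x y) := by
  change _ = h.b (f.β x y • _) _
  rw [f.β_b, f.exists_one.choose_spec, one_smul]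

theorem exists_β {x : V} (hx : x ≠ 0) : ∃ y, f.β y x = 1 := by
  obtain ⟨y, hy⟩ := h.exists_ne hx
  exact ⟨(f.β y x)⁻¹ • y, by
    rw [f.β_smul_left, inv_mul_cancel₀ fun e => hy (by rw [f.b_eq, e, map_zero])]⟩

theorem β_ext {x x' : V} (hx : ∀ y, f.β y x = f.β y x') : x = x' := h.ext_right fun y => by rw [f.b_eq, f.b_eq, hx]

theorem exists_T {a : E} (ha : a ≠ 0) : ∃ z, f.T (z * a) ≠ 0 := by
  obtain ⟨x, hx⟩ := exists_ne (0 : V)
  obtain ⟨y, hy⟩ := h.exists_ne hx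
  exact ⟨f.β y x / a, by rwa [div_mul_cancel₀ _ ha, ← f.b_eq]⟩

variable {F : FR h.EB} {s κ : K} (o : SO h F s κ)
include o

theorem σ_alg (c : K) : f.σ (algebraMap K E c) = algebraMap K E c := by
  obtain ⟨x, hx⟩ := exists_ne (0 : V)
  refine smul_left_injective E hx (h.ext_right fun y => ?_)
  change h.b y (_ • x) = h.b y (_ • x)
  rw [← f.b_smul, algebraMap_smul, algebraMap_smul, h.smul_left, h.smul_right, o.tau]

theorem σ_smul (c : K) (z : E) : f.σ (c • z) = c • f.σ z := by rw [Algebra.smul_def, Algebra.smul_def, map_mul, f.σ_alg o]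

theorem β_swap (x y : V) : f.β y x = algebraMap K E s * f.σ (f.β x y) := by
  let e : Eˣ ≃ Eˣ := Function.Involutive.toPerm (Units.map (f.σ : E →* E)) fun u => Units.ext (f.σ_σ u)
  rw [β, β, map_neg, map_sum, mul_neg, Finset.mul_sum]
  refine congrArg _ (Fintype.sum_equiv e _ _ fun u => ?_)
  have h1 : ((e u : Eˣ) : E) = f.σ u := rfl
  rw [f.σ_smul o, h1, f.σ_σ, ← Algebra.smul_def, smul_smul, ← o.sw, f.b_smul, map_inv₀]

theorem orth {x y : V} (e : f.β x y = 0) : f.β y x = 0 := by rw [f.β_swap o, e, map_zero, mul_zero]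

omit f [Nontrivial V] in
theorem sE : algebraMap K E s * algebraMap K E s = 1 := by rw [← map_mul, o.ss, map_one]

theorem T_σ (z : E) : f.T (f.σ z) = f.T z := by
  obtain ⟨⟨u, u'⟩, hu⟩ := f.exists_one
  have h1 := o.sw (z • u) u'
  rw [f.b_eq, f.b_eq, f.β_swap o, f.β_smul_left, hu, mul_one, ← Algebra.smul_def, map_smul, smul_eq_mul] at h1
  exact mul_left_cancel₀ (left_ne_zero_of_mul_eq_one o.ss) h1

theorem star_τ (u y x : V) : h.ap (star (f.τ u y)) x = (algebraMap K E s * f.β x u) • y := by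
  refine f.β_ext fun z => ?_
  rw [f.β_star (f.τ_mem _ _), f.ap_τ, f.β_smul_left, f.β_smul_right, map_mul, f.σ_alg o, ← f.β_swap o, mul_comm]

omit o in
/-- singular vectors over `E` -/
def Sing (F : FR h.EB) (κ : K) (x : V) : Prop := f.β x x = 0 ∧ ∀ z : E, qf h F κ (z • x) = 0

omit o in
theorem Sing.smul {x : V} (hx : f.Sing F κ x) (z : E) : f.Sing F κ (z • x) :=
  ⟨by rw [f.β_smul_left, f.β_smul_right, hx.1, mul_zero, mul_zero], fun y => by rw [smul_smul, hx.2]⟩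

variable {l : h.EB} (hl : l ∈ f.C) (hL : F.l - l ∈ F.L)
include hl hL

theorem qf_eq (z : E) (x : V) : qf h F κ (z • x) = κ * f.T (z * f.σ z * f.β x (h.ap l x)) := by
  rw [o.qf_eq hL, f.b_eq, f.lin hl, f.β_smul_left, f.β_smul_right, mul_assoc]

omit o in
theorem β_l (x y : V) : f.β x (h.ap l y) + f.β (h.ap l x) y = f.β x y := by
  rw [← f.β_star hl, ← f.β_add_right, ← h.ap_add, l_add hL, h.ap_one]

theorem β_self (x : V) : f.β x x = f.β x (h.ap l x) + algebraMap K E s * f.σ (f.β x (h.ap l x)) := by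
  rw [← f.β_swap o, f.β_l hl hL]

theorem sing_of_q {x : V} (hx : f.β x (h.ap l x) = 0) : f.Sing F κ x :=
  ⟨by rw [f.β_self o hl hL, hx, map_zero, mul_zero, add_zero], fun z => by
    rw [f.qf_eq o hl hL, hx, mul_zero, map_zero, mul_zero]⟩

/-- hyperbolic pairs -/
theorem partner {v : V} (hv : f.Sing F κ v) (h0 : v ≠ 0) : ∃ w, f.Sing F κ w ∧ f.β v w = 1 := by
  obtain ⟨y, hy⟩ := f.exists_β h0
  obtain ⟨w, h1⟩ : ∃ w, f.β v w = 1 := ⟨algebraMap K E s • y, by
    rw [f.β_smul_right, f.σ_alg o, f.β_swap o, hy, map_one, mul_one, sE o]⟩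
  have h2 : f.β w v = algebraMap K E s := by rw [f.β_swap o, h1, map_one, mul_one]
  refine ⟨w - f.β w (h.ap l w) • v, ⟨?_, fun z => ?_⟩, by rw [f.β_sub_right, f.β_smul_right, hv.1, h1, mul_zero, sub_zero]⟩
  · simp only [f.β_sub_left, f.β_sub_right, f.β_smul_left, f.β_smul_right, hv.1, h1, h2]
    rw [f.β_self o hl hL]
    ring
  · rcases o.alt with e | e
    · rw [qf, e.2, zero_mul]
    have h3 := hv.2 (z * f.β w (h.ap l w))
    have h4 := f.β_l hl hL v w
    have h5 := f.T_σ o (z * f.σ z * (f.σ (f.β w (h.ap l w)) * f.β w (h.ap l v)))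
    rw [f.qf_eq o hl hL] at h3 ⊢
    rw [map_mul f.σ, map_mul f.σ, map_mul f.σ, f.σ_σ, f.σ_σ, mul_comm _ z,
      show f.σ (f.β w (h.ap l v)) = f.β (h.ap l v) w by rw [f.β_swap o w, e.1, map_one, one_mul],
      eq_sub_of_add_eq' h4, h1] at h5
    rw [map_sub, f.lin hl]
    simp only [f.β_sub_left, f.β_sub_right, f.β_smul_left, f.β_smul_right, map_mul f.σ] at h3 ⊢
    generalize f.β w (h.ap l w) = μ at h3 h5 ⊢
    have h6 : z * f.σ z * (μ - f.σ μ * f.β w (h.ap l v) - (μ * f.β v (h.ap l w) - μ * (f.σ μ * f.β v (h.ap l v)))) =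
      z * f.σ z * (μ * (1 - f.β v (h.ap l w))) - z * f.σ z * (f.σ μ * f.β w (h.ap l v)) +
        z * μ * (f.σ z * f.σ μ) * f.β v (h.ap l v) := by ring
    rw [h6, map_add, map_sub, h5, sub_self, zero_add, h3]

/-- non-singular vectors of norm zero: orthogonal groups in characteristic two -/
theorem sing_add {x y : V} (hx : f.β x x = 0) (hx' : ¬ f.Sing F κ x) (hxy : f.β x y = 0) :
    ∃ μ : E, f.Sing F κ (μ • x + y) := by
  obtain ⟨z, hz⟩ := not_forall.1 fun e => hx' ⟨hx, e⟩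
  rw [f.qf_eq o hl hL] at hz
  obtain ⟨rfl, rfl⟩ := o.alt.resolve_left fun e => hz (by rw [e.2, zero_mul])
  rw [f.β_self o hl hL, map_one, one_mul] at hx
  rw [one_mul] at hz
  have h1 : f.σ (z * f.σ z * f.β x (h.ap l x)) = -(z * f.σ z * f.β x (h.ap l x)) := by
    rw [map_mul, map_mul, f.σ_σ, eq_neg_of_add_eq_zero_right hx]; ring
  have h2 : (2 : K) = 0 := by
    have h2 := f.T_σ o (z * f.σ z * f.β x (h.ap l x))
    rw [h1, map_neg] at h2
    exact (mul_eq_zero.1 (by linear_combination -h2)).resolve_right hz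
  have h3 : (2 : E) = 0 := by rw [← map_ofNat (algebraMap K E) 2, h2, map_zero]
  have h4 : ∀ θ, f.σ θ = θ := fun θ => by
    by_contra h4
    have h5 : θ + f.σ θ ≠ 0 := fun e => h4 (by linear_combination e - θ * h3)
    generalize z * f.σ z * f.β x (h.ap l x) = y at hz h1
    have h6 := f.T_σ o (θ / (θ + f.σ θ) * y)
    have h7 : y = θ / (θ + f.σ θ) * y + f.σ (θ / (θ + f.σ θ) * y) := by
      rw [map_mul, map_div₀, map_add, f.σ_σ, h1, add_comm (f.σ θ)]
      field_simp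
      linear_combination (f.σ θ * y) * h3
    refine hz ?_
    rw [h7, map_add, h6, ← two_mul, h2, zero_mul]
  have : CharP E 2 := (CharP.charP_iff_prime_eq_zero Nat.prime_two).2 h3
  obtain ⟨μ, hμ⟩ := FiniteField.isSquare_of_char_two (ringChar.eq E 2) (f.β y (h.ap l y) / f.β x (h.ap l x))
  rw [div_eq_iff fun e => hz (by rw [e, mul_zero, map_zero])] at hμ
  refine ⟨μ, f.sing_of_q o hl hL ?_⟩
  have h5 := f.β_l hl hL x y
  rw [f.β_swap o y, h4, map_one, one_mul] at h5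
  rw [map_add, f.lin hl]
  simp only [f.β_add_left, f.β_add_right, f.β_smul_left, f.β_smul_right, h4]
  linear_combination μ * h5 + μ * hxy + hμ + μ * μ * f.β x (h.ap l x) * h3

end FE

end Cfsg.Agent.TH.Cl.FSO
end

-- part: TH/Cl/FldSO/Big
section
/-!
# S3541, symplectic and orthogonal groups: the dimension over an invariant field is at most two (helper94)

For a hyperbolic pair `v, w` over `E` and a long root element `g` of the plane `⟨v, β₀ w⟩`, `T β₀ = 0`, an element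
commuting with `E` and `g E g⁻¹` commutes with the projection onto `E v + E w`.
-/

set_option autoImplicit false
set_option linter.unusedSectionVars false

namespace Cfsg.Agent.TH.Cl.FSO.FE

open Cfsg.Agent.DS.Cl Cfsg.Agent.DS.Cl.Fwd Cfsg.Agent.SB.Cl Cfsg.Agent.SB.C2 Module
open Cfsg.Agent.SB.Tor (ap_zero ap_inv_ap ap_ap_inv)

local notation "cA" => Cfsg.Agent.DS.Cl.cj

variable {K V : Type} [Field K] [Fintype K] [AddCommGroup V] [Module K V] [Finite V] [Nontrivial V] {h : HF K V}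
  {E : Type} [Field E] [Fintype E] [DecidableEq E] [Algebra K E] [Module E V] [IsScalarTower K E V] (f : FE h E)
  {F : FR h.EB} {s κ : K} {r p : ℕ} {P : Subgroup h.EBˣ}

theorem ap_cj (u : h.EBˣ) (a : h.EB) (x : V) : h.ap (cA h.EB u a) (h.ap u x) = h.ap u (h.ap a x) := by
  rw [← h.ap_mul, cj_mul_eq, h.ap_mul]

theorem ap_comm {a b : h.EB} (e : a * b = b * a) (x : V) : h.ap a (h.ap b x) = h.ap b (h.ap a x) := by
  rw [← h.ap_mul, e, h.ap_mul]

theorem av_comm {u a : h.EB} (hu : u ∈ f.C) (e : u * a = a * u) : u * f.av a = f.av a * u := by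
  rw [← f.av_left hu, e, f.av_right hu]

theorem av_conj {ν : h.EB} (a : E) : f.av ((1 + ν) * f.ι a * (1 - ν)) = f.ι a - f.av (ν * f.ι a * ν) := by
  have h1 : (1 + ν) * f.ι a * (1 - ν) = f.ι a + ν * f.ι a - f.ι a * ν - ν * f.ι a * ν := by noncomm_ring
  rw [h1, map_sub, map_sub, map_add, f.av_of_mem (f.ι_mem a), f.av_left (f.ι_mem a), f.av_right (f.ι_mem a),
    f.mem_C.1 (f.av_mem ν), add_sub_cancel_right]

section

variable (S : Syl F f.ι.range r p P)
include S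

theorem syl_C {u : h.EBˣ} (hu : u ∈ P) : (u : h.EB) ∈ f.C := f.mem_C.2 fun z => (S.comm u hu _ ⟨z, rfl⟩).symm

/-- an `E`-linear map `c + α π` commuting with `P` -/
theorem syl_comm {π : h.EB} {a α : E} (hα : α ≠ 0) {x : h.EB} (hx : ∀ u ∈ P, (u : h.EB) * x = x * u)
    (e : f.av x = f.ι a - f.ι α * π) : ∀ u ∈ P, (u : h.EB) * π = π * u := fun u hu => by
  have h1 := f.av_comm (f.syl_C S hu) (hx u hu)
  have h2 := f.mem_C.1 (f.syl_C S hu)
  rw [e, mul_sub, sub_mul, h2, sub_right_inj, ← mul_assoc, ← h2, mul_assoc, mul_assoc] at h1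
  exact ((IsUnit.mk0 α hα).map f.ι).mul_left_cancel h1

theorem fix2 {v w v' v'' : V} {α α' γ γ' : E} (e' : v' = α • v + α' • w) (e'' : v'' = γ • v + γ' • w)
    (f' : ∀ u ∈ P, h.ap u v' = v') (f'' : ∀ u ∈ P, h.ap u v'' = v'') (h1 : f.β v' v' ≠ 0) (h2 : f.β v'' v' = 0)
    (h3 : v'' ≠ 0) (h4 : f.β v v = 0) : ∀ u ∈ P, h.ap u v = v := fun u hu => by
  have h5 : γ' • v' - α' • v'' = (α * γ' - α' * γ) • v := by rw [e', e'']; module
  have h6 : α * γ' - α' * γ ≠ 0 := fun h0 => by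
    rw [h0, zero_smul] at h5
    have h7 := congrArg (f.β · v') h5
    simp only [f.β_sub_left, f.β_smul_left, h2, f.β_zero_left, mul_zero, sub_zero] at h7
    rw [(mul_eq_zero.1 h7).resolve_right h1, zero_smul, zero_sub, neg_eq_zero] at h5
    rw [(smul_eq_zero.1 h5).resolve_right h3, zero_smul, add_zero] at e'
    exact h1 (by rw [e', f.β_smul_left, f.β_smul_right, h4, mul_zero, mul_zero])
  refine smul_right_injective V h6 ?_
  change _ • _ = _ • v
  rw [← f.lin (f.syl_C S hu), ← h5, map_sub, f.lin (f.syl_C S hu), f.lin (f.syl_C S hu), f' u hu, f'' u hu]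

variable (o : SO h F s κ) {l : h.EB} (hl : l ∈ f.C) (hL : F.l - l ∈ F.L) (hr : r < Fintype.card E)
include o hl hL hr

/-- the Eichler transformations with centre `e` -/
theorem final {π : h.EB} (hπ : π ∈ f.C) (hP : ∀ u ∈ P, (u : h.EB) * π = π * u) {e y : V} (he : f.Sing F κ e)
    (hf : ∀ u ∈ P, h.ap u e = e) (h1 : h.ap π e ≠ 0) (y0 : y ≠ 0) (h2 : h.ap π y = 0) (h3 : f.β y e = 0) : False := by
  obtain ⟨t, t1, t2⟩ : ∃ t, f.β t e = 0 ∧ f.β y t ≠ 0 := by
    by_contra hc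
    push Not at hc
    obtain ⟨e', he'⟩ := f.exists_β (x := e) fun e0 => h1 (by rw [e0, map_zero])
    have h4 : y = (algebraMap K E s * f.β y e') • e := f.β_ext fun x => by
      have h5 := hc (x - f.β x e • e') (by rw [f.β_sub_left, f.β_smul_left, he', mul_one, sub_self])
      rw [f.β_sub_right, f.β_smul_right, sub_eq_zero] at h5
      rw [f.β_smul_right, f.β_swap o, h5, map_mul, map_mul, f.σ_σ, f.σ_alg o]
      ring
    rw [h4, f.lin hπ, smul_eq_zero_iff_left h1] at h2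
    exact y0 (by rw [h4, h2, zero_smul])
  have t3 := f.orth o t1
  let J : NonUnitalSubring h.EB :=
    { carrier := {j | j ∈ f.C ∧ (∀ x, f.β (h.ap j x) e = 0) ∧ (∀ x, f.β x e = 0 → ∃ z : E, h.ap j x = z • e) ∧
        h.ap j e = 0}
      add_mem' := fun {a b} ha hb => ⟨add_mem ha.1 hb.1, fun x => by
        rw [h.ap_add, f.β_add_left, ha.2.1, hb.2.1, add_zero], fun x hx => by
        obtain ⟨z, hz⟩ := ha.2.2.1 x hx
        obtain ⟨z', hz'⟩ := hb.2.2.1 x hx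
        exact ⟨z + z', by rw [h.ap_add, hz, hz', add_smul]⟩, by rw [h.ap_add, ha.2.2.2, hb.2.2.2, add_zero]⟩
      zero_mem' := ⟨zero_mem _, fun _ => f.β_zero_left e, fun _ _ => ⟨0, (zero_smul E e).symm⟩, rfl⟩
      mul_mem' := fun {a b} ha hb => ⟨mul_mem ha.1 hb.1, fun x => ha.2.1 _, fun x _ => ha.2.2.1 _ (hb.2.1 x), by
        rw [h.ap_mul, hb.2.2.2, map_zero]⟩
      neg_mem' := fun {a} ha => ⟨neg_mem ha.1, fun x => by
        rw [ap_neg, ← zero_sub, f.β_sub_left, ha.2.1, f.β_zero_left, sub_zero], fun x hx => by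
        obtain ⟨z, hz⟩ := ha.2.2.1 x hx
        exact ⟨-z, by rw [ap_neg, hz, neg_smul]⟩, by rw [ap_neg, ha.2.2.2, neg_zero]⟩ }
  choose w w1 w2 using fun c : E => o.uni (f.τ (c • e) t) l hL
    (h.ap_ext fun x => by simp [h.ap_mul, f.ap_τ, f.β_smul_left, t3, ap_zero])
    (h.ap_ext fun x => by simp only [h.ap_mul, f.ap_τ, f.star_τ o, f.β_smul_left, f.β_smul_right, he.1, ap_zero, _root_.MulZeroClass.mul_zero, _root_.zero_smul])
    fun x => by rw [f.ap_τ, smul_smul, he.2]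
  have w3 : ∀ c x, ∃ z : E, h.ap (w c) x = x + (f.β x t * c) • e - (algebraMap K E s * (f.σ c * f.β x e)) • t -
      (z * f.β x e) • e := fun c x => ⟨algebraMap K E s * f.σ c * f.β (h.ap l t) t * c, by
    rw [w2, h.ap_sub, h.ap_sub, h.ap_add, h.ap_mul, h.ap_mul, h.ap_one, f.star_τ o, f.lin hl, f.ap_τ, f.ap_τ,
      f.β_smul_left, f.β_smul_right]
    module⟩
  have w4 : ∀ c x, f.β x e = 0 → h.ap (w c) x = x + (f.β x t * c) • e := fun c x hx => by
    obtain ⟨z, hz⟩ := w3 c x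
    simpa [hx] using hz
  have w5 : ∀ c, (w c : h.EB) ∈ f.C := fun c => by
    have a1 := f.τ_mem (c • e) t
    rw [w2]
    exact sub_mem (sub_mem (add_mem (one_mem _) a1) (f.star_mem a1)) (mul_mem (mul_mem a1 hl) (f.star_mem a1))
  have w6 : ∀ c, h.ap (w c) e = e := fun c => by rw [w4 c e he.1, t3, zero_mul, zero_smul, add_zero]
  refine absurd (S.fam J (fun j hj => ⟨3, h.ap_ext fun x => ?_⟩) ?_ ?_ π hP E w w1 (fun c => ⟨sub_mem (w5 c) (one_mem _),
    fun x => ?_, fun x hx => ⟨f.β x t * c, ?_⟩, ?_⟩) fun a b hab => ?_) (by rwa [Nat.card_eq_fintype_card, not_le])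
  · obtain ⟨z, hz⟩ := hj.2.2.1 _ (hj.2.1 x)
    rw [pow_three, h.ap_mul, h.ap_mul, hz, f.lin hj.1, hj.2.2.2, smul_zero, ap_zero]
  · rintro j hj _ ⟨z, rfl⟩
    exact f.mem_C.1 hj.1 z
  · intro u hu j hj
    have a1 := f.syl_C S hu
    have a2 := f.β_iso a1 (S.iso hu).1
    refine ⟨mul_mem (mul_mem a1 hj.1) (f.syl_C S (inv_mem hu)), fun x => ?_, fun x hx => ?_, ?_⟩
    · rw [← ap_ap_inv h u x, ap_cj, ← hf u hu, a2, hj.2.1]
    · obtain ⟨z, hz⟩ := hj.2.2.1 (h.ap (u⁻¹ : h.EBˣ) x) (by rwa [← a2, ap_ap_inv, hf u hu])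
      exact ⟨z, by rw [← ap_ap_inv h u x, ap_cj, hz, f.lin a1, hf u hu]⟩
    · rw [← hf u hu, ap_cj, hj.2.2.2, map_zero]
  · obtain ⟨z, hz⟩ := w3 c x
    simp only [h.ap_sub, h.ap_one, hz, f.β_sub_left, f.β_add_left, f.β_smul_left, he.1, t1, _root_.MulZeroClass.mul_zero, _root_.add_zero, _root_.sub_zero, _root_.sub_self]
  · rw [h.ap_sub, h.ap_one, w4 c x hx, add_sub_cancel_left]
  · rw [h.ap_sub, h.ap_one, w6, sub_self]
  · have a1 : ∀ c, h.ap (cA h.EB (w c) π) y + (f.β y t * c) • h.ap (cA h.EB (w c) π) e = 0 := fun c => by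
      have a2 : cA h.EB (w c) π ∈ f.C := by
        rw [FR.Iso.cj_apply (F.comm_le_Iso (w1 c))]
        exact mul_mem (mul_mem (w5 c) hπ) (f.star_mem (w5 c))
      rw [← f.lin a2, ← map_add, ← w4 c y h3, ap_cj, h2, map_zero]
    have a2 : h.ap (cA h.EB (w b) π) e ≠ 0 := fun e0 => h1 (by
      rw [← w6 b, ap_cj] at e0
      rw [← ap_inv_ap h (w b) (h.ap π e), e0, map_zero])
    have a3 := (a1 a).trans (a1 b).symm
    rw [hab, add_right_inj] at a3
    exact mul_left_cancel₀ t2 (smul_left_injective E a2 a3)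

end

variable (o : SO h F s κ)
include o

/-- the long root element -/
theorem exists_g {v w : V} (hv : f.Sing F κ v) (hw : f.Sing F κ w) (h1 : f.β v w = 1) {b : E} (b1 : f.T b = 0)
    (b2 : f.σ b = b ∨ f.σ b = -b) : ∃ g ∈ (⁅F.Iso, F.Iso⁆ : Subgroup h.EBˣ),
      (∀ x, h.ap g x = x + f.T (b * f.β x w) • v - (s * f.T (f.β x v)) • f.σ b • w) ∧
      ∀ a, f.av (cA h.EB g (f.ι a)) = f.ι a - f.ι (f.T (a * b) • b) * (f.τ v w + star (f.τ v w)) := by
  have h2 : f.β w v = algebraMap K E s := by rw [f.β_swap o, h1, map_one, mul_one]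
  obtain ⟨g, hg, e⟩ := o.nil (e := v) (t := f.σ b • w) (by simpa using hv.2 1) (hw.2 _)
    (o.orth (by rw [f.b_eq, f.β_smul_right, f.σ_σ, h1, mul_one, b1]))
  have h3 : ∀ x, h.ap (h.eb (h.ro v (f.σ b • w)) - star (h.eb (h.ro v (f.σ b • w)))) x =
      f.T (b * f.β x w) • v - (s * f.T (f.β x v)) • f.σ b • w := fun x => by
    rw [h.ap_sub, o.star_ro, h.ap_eb, h.ro_apply, f.b_eq, f.b_eq, f.β_smul_right, f.σ_σ]
  refine ⟨g, hg, fun x => by rw [e, h.ap_add, h3, h.ap_one, add_sub_assoc], fun a => ?_⟩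
  rw [FR.Iso.cj_apply (F.comm_le_Iso hg), e, star_add, star_one, star_sub, star_star, ← neg_sub (h.eb _),
    ← sub_eq_add_neg, f.av_conj, sub_right_inj]
  generalize h.eb (h.ro v (f.σ b • w)) - star (h.eb (h.ro v (f.σ b • w))) = ν at h3
  have h4 : ν * f.ι a * ν = h.eb (h.ro (f.T (a * b) • v) (f.σ b • w)) +
      h.eb (h.ro ((s * f.T (a * f.σ b)) • f.σ b • w) v) := h.ap_ext fun x => by
    rw [h.ap_mul, h.ap_mul, h3 x, map_sub, map_sub, map_smul, map_smul, map_smul, map_smul, f.ap_ι, f.ap_ι, h3, h3,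
      h.ap_add, h.ap_eb, h.ap_eb, h.ro_apply, h.ro_apply, f.b_eq, f.b_eq, f.β_smul_right, f.σ_σ]
    simp only [f.β_smul_left, hv.1, hw.1, h1, h2, mul_zero, map_zero, mul_one]
    rw [← mul_assoc, mul_comm _ (algebraMap K E s), ← Algebra.smul_def, map_smul, smul_eq_mul, mul_comm b a,
      ← mul_assoc s s, o.ss]
    module
  rw [h4, map_add]
  refine h.ap_ext fun x => (h.ap_add _ _ x).trans ?_
  rw [h.ap_mul, f.ap_ι, h.ap_add, f.star_τ o, ← τ, ← τ, f.ap_τ, f.ap_τ, f.ap_τ, f.β_smul_right, f.σ_σ,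
    Algebra.smul_def _ b]
  rcases b2 with b2 | b2 <;> rw [b2]
  · module
  · rw [mul_neg, map_neg]
    module

/-- **a hyperbolic pair spans** -/
theorem big (hA : AllSyl F f.ι.range r p) {l : h.EB} (hl : l ∈ f.C) (hL : F.l - l ∈ F.L) (hr : r < Fintype.card E)
    {b : E} (b0 : b ≠ 0) (b1 : f.T b = 0) (b2 : f.σ b = b ∨ f.σ b = -b) {v w : V} (hv : f.Sing F κ v)
    (hw : f.Sing F κ w) (h1 : f.β v w = 1) (x : V) : x = f.β x w • v + (algebraMap K E s * f.β x v) • w := by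
  by_contra hx
  have h2 : f.β w v = algebraMap K E s := by rw [f.β_swap o, h1, map_one, mul_one]
  obtain ⟨g, hg, -, e⟩ := f.exists_g o hv hw h1 b1 b2
  obtain ⟨P, S, hP⟩ := hA g hg
  obtain ⟨a, ha⟩ := f.exists_T b0
  have p1 := f.syl_comm S (smul_ne_zero ha b0) (fun u hu => hP u hu _ ⟨a, rfl⟩) (e a)
  have p2 : f.τ v w + star (f.τ v w) ∈ f.C := add_mem (f.τ_mem v w) (f.star_mem (f.τ_mem v w))
  have p3 : star (f.τ v w + star (f.τ v w)) = f.τ v w + star (f.τ v w) := by rw [star_add, star_star, add_comm]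
  have p4 : ∀ x, h.ap (f.τ v w + star (f.τ v w)) x = f.β x w • v + (algebraMap K E s * f.β x v) • w := fun x => by
    rw [h.ap_add, f.ap_τ, f.star_τ o]
  generalize f.τ v w + star (f.τ v w) = π at p1 p2 p3 p4
  have p5 : h.ap π v = v := by rw [p4, h1, hv.1, one_smul, mul_zero, zero_smul, add_zero]
  have p6 : h.ap π w = w := by rw [p4, h2, hw.1, sE o, one_smul, zero_smul, zero_add]
  have p7 : ∀ x y, h.ap π x = x → h.ap π y = 0 → f.β y x = 0 := fun x y hx hy => by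
    rw [← hx, ← f.star_β p2, p3, hy, f.β_zero_left]
  have v0 : v ≠ 0 := fun e => by rw [e, f.β_zero_left] at h1; exact zero_ne_one h1
  have y0 : x - h.ap π x ≠ 0 := by rwa [p4, sub_ne_zero]
  have y1 : h.ap π (x - h.ap π x) = 0 := by rw [map_sub, p4 x, map_add, f.lin p2, f.lin p2, p5, p6, sub_self]
  generalize x - h.ap π x = y at y0 y1
  obtain ⟨v', a1, a2, a3⟩ := S.fix (LinearMap.ker (h.ap (π - 1))).toAddSubgroup (fun u hu x hx => by
    change h.ap π _ - h.ap u x = 0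
    rw [← ap_comm (p1 u hu), ← map_sub]
    exact (congrArg (h.ap u) hx).trans (map_zero _)) (y := v) (sub_eq_zero.2 p5) v0
  replace a1 : h.ap π v' = v' := sub_eq_zero.1 a1
  by_cases c1 : f.β v' v' = 0
  · by_cases c2 : f.Sing F κ v'
    · exact f.final S o hl hL hr p2 p1 c2 a3 (by rwa [a1]) y0 y1 (p7 _ _ a1 y1)
    obtain ⟨w', a4, a5, a6⟩ := S.fix (LinearMap.ker (h.ap π)).toAddSubgroup (fun u hu x hx => by
      change h.ap π _ = 0
      rw [← ap_comm (p1 u hu)]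
      exact (congrArg (h.ap u) hx).trans (map_zero _)) (y := y) y1 y0
    replace a4 : h.ap π w' = 0 := a4
    have a7 := f.orth o (p7 _ _ a1 a4)
    obtain ⟨μ, hμ⟩ := f.sing_add o hl hL c1 c2 a7
    refine f.final S o hl hL hr (sub_mem (one_mem _) p2) (fun u hu => by rw [mul_sub, sub_mul, p1 u hu, mul_one, one_mul])
      hμ (fun u hu => by rw [map_add, f.lin (f.syl_C S hu), a3 u hu, a6 u hu]) ?_ a2 ?_ ?_
    · rwa [h.ap_sub, h.ap_one, map_add, f.lin p2, a1, a4, add_zero, add_sub_cancel_left]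
    · rw [h.ap_sub, h.ap_one, a1, sub_self]
    · rw [f.β_add_right, f.β_smul_right, c1, a7, mul_zero, add_zero]
  · let M : AddSubgroup V :=
      { carrier := {x | h.ap π x = x ∧ f.β x v' = 0}
        add_mem' := fun ha hb => ⟨by rw [map_add, ha.1, hb.1], by rw [f.β_add_left, ha.2, hb.2, add_zero]⟩
        zero_mem' := ⟨map_zero _, f.β_zero_left _⟩
        neg_mem' := fun ha => ⟨by rw [map_neg, ha.1], by rw [← zero_sub, f.β_sub_left, ha.2, f.β_zero_left, sub_zero]⟩ }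
    obtain ⟨v'', a4, a5, a6⟩ := S.fix M (fun u hu x hx => ⟨by rw [← ap_comm (p1 u hu), hx.1], by
        rw [← a3 u hu, f.β_iso (f.syl_C S hu) (S.iso hu).1, hx.2]⟩) (y := f.β v' v' • v - f.β v v' • v')
      ⟨by rw [map_sub, f.lin p2, f.lin p2, p5, a1], by rw [f.β_sub_left, f.β_smul_left, f.β_smul_left]; ring⟩ fun e => by
        have a4 := congrArg (f.β · v) e
        simp only [f.β_sub_left, f.β_smul_left, hv.1, f.β_zero_left, mul_zero, zero_sub, neg_eq_zero] at a4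
        have a5 : f.β v v' = 0 := (mul_eq_zero.1 a4).elim id (f.orth o)
        rw [a5, zero_smul, sub_zero] at e
        exact smul_ne_zero c1 v0 e
    exact f.final S o hl hL hr p2 p1 hv (f.fix2 S (a1.symm.trans (p4 v')) (a4.1.symm.trans (p4 v'')) a3 a6 c1 a4.2 a5 hv.1)
      (by rwa [p5]) y0 y1 (p7 _ _ p5 y1)

end Cfsg.Agent.TH.Cl.FSO.FE
end

-- part: TH/Cl/FldSO/Two
section
/-!
# S3541, symplectic and orthogonal groups: invariant fields of prime degree (helper94)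

Singular vectors and hyperbolic pairs over the extension field.
-/

set_option autoImplicit false
set_option linter.unusedSectionVars false

namespace Cfsg.Agent.TH.Cl.FSO.FE

open Cfsg.Agent.DS.Cl Cfsg.Agent.DS.Cl.Fwd Cfsg.Agent.SB.Cl Cfsg.Agent.SB.C2 Module
open Cfsg.Agent.SB.Tor (ap_zero ap_inv_ap ap_ap_inv)

local notation "cA" => Cfsg.Agent.DS.Cl.cj

variable {K V : Type} [Field K] [Fintype K] [AddCommGroup V] [Module K V] [Finite V] [Nontrivial V] {h : HF K V}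
  {E : Type} [Field E] [Fintype E] [DecidableEq E] [Algebra K E] [Module E V] [IsScalarTower K E V] (f : FE h E)
  {F : FR h.EB} {s κ : K} {p : ℕ} {l : h.EB}

/-- an invariant field of prime degree -/
structure Dat (F : FR h.EB) (p : ℕ) (l : h.EB) : Prop where
  syl : AllSyl F f.ι.range (finrank K E) p
  mem : l ∈ f.C
  L : F.l - l ∈ F.L
  prime : (finrank K E).Prime

theorem pow_le_ker : Fintype.card K ^ (finrank K E - 1) ≤ Nat.card (LinearMap.ker f.T) := by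
  have h1 := f.T.finrank_range_add_finrank_ker
  have h2 := Submodule.finrank_le (LinearMap.range f.T)
  rw [finrank_self] at h2
  rw [Module.natCard_eq_pow_finrank (K := K), Nat.card_eq_fintype_card]
  exact Nat.pow_le_pow_right Fintype.card_pos (by omega)

theorem finrank_le {v w : V} (hx : ∀ x, ∃ a b : E, x = a • v + b • w) : finrank K V ≤ 2 * finrank K E := by
  have : Module.Finite E V := Module.Finite.of_finite
  have h1 := (LinearMap.toSpanSingleton E V v).coprod (LinearMap.toSpanSingleton E V w) |>.finrank_range_le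
  rw [LinearMap.range_eq_top.2 fun x => by
    obtain ⟨a, b, rfl⟩ := hx x
    exact ⟨(a, b), rfl⟩, finrank_top, finrank_prod, finrank_self] at h1
  rw [← finrank_mul_finrank K E V, mul_comm]
  exact Nat.mul_le_mul_right _ h1

variable {f} (o : SO h F s κ) (d : f.Dat F p l)
include o d

theorem fixK {θ : E} (hθ : f.σ θ ≠ θ) {u z : E} (u0 : u ≠ 0) {t : E} (hu : f.σ u = t * u) (hz : f.σ z = t * z) :
    ∃ c : K, z = c • u := by
  have t0 : t ≠ 0 := fun e => u0 (by rwa [e, zero_mul, map_eq_zero] at hu)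
  rcases (Subalgebra.isSimpleOrder_of_finrank_prime K E d.prime).eq_bot_or_eq_top
    (AlgHom.equalizer { f.σ with commutes' := f.σ_alg o } (AlgHom.id K E)) with e | e
  · obtain ⟨c, hc⟩ := Algebra.mem_bot.1 (e.le (show f.σ (z / u) = z / u by rw [map_div₀, hu, hz, mul_div_mul_left _ _ t0]))
    exact ⟨c, by rw [Algebra.smul_def, hc, div_mul_cancel₀ _ u0]⟩
  · exact absurd (e.ge (Algebra.mem_top (x := θ))) hθ

theorem exists_b : ∃ b : E, b ≠ 0 ∧ f.T b = 0 ∧ (f.σ b = b ∨ f.σ b = -b) := by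
  by_cases hσ : ∀ θ, f.σ θ = θ
  · have : Nontrivial (LinearMap.ker f.T) := Finite.one_lt_card_iff_nontrivial.1
      ((Nat.one_lt_pow (by have := d.prime.two_le; omega) Fintype.one_lt_card).trans_le f.pow_le_ker)
    obtain ⟨b, hb⟩ := exists_ne (0 : LinearMap.ker f.T)
    exact ⟨b, fun e => hb (Subtype.ext e), b.2, Or.inl (hσ _)⟩
  obtain ⟨θ, hθ⟩ := not_forall.1 hσ
  exact ⟨f.σ θ - θ, sub_ne_zero.2 hθ, by rw [map_sub, f.T_σ o, sub_self], Or.inr (by rw [map_sub, f.σ_σ, neg_sub])⟩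

theorem span {v : V} (hv : f.Sing F κ v) (v0 : v ≠ 0) : ∃ w, f.Sing F κ w ∧ f.β v w = 1 ∧
    ∀ x, x = f.β x w • v + (algebraMap K E s * f.β x v) • w := by
  obtain ⟨w, hw, h1⟩ := f.partner o d.mem d.L hv v0
  obtain ⟨b, b0, b1, b2⟩ := exists_b o d
  refine ⟨w, hw, h1, f.big o d.syl d.mem d.L ?_ b0 b1 b2 hv hw h1⟩
  rw [Module.card_eq_pow_finrank (K := K)]
  exact Nat.lt_pow_self Fintype.one_lt_card

theorem sing_ne {θ : E} (hθ : f.σ θ ≠ θ) (h3 : 3 ≤ finrank K V) : ∃ v, v ≠ 0 ∧ f.Sing F κ v := by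
  have : Module.Finite K V := Module.Finite.of_finite
  have h1 : f.σ (f.σ θ - θ) = -1 * (f.σ θ - θ) := by rw [map_sub, f.σ_σ]; ring
  obtain ⟨u, u0, hu⟩ : ∃ u : E, u ≠ 0 ∧ f.σ u = algebraMap K E s * u := by
    rcases o.alt with e | e <;> rw [e.1]
    · exact ⟨_, sub_ne_zero.2 hθ, by rw [h1, map_neg, map_one]⟩
    · exact ⟨1, one_ne_zero, by simp⟩
  obtain ⟨a, ha⟩ := f.exists_T u0
  obtain ⟨v, v0, hv⟩ := H181.StdBasis.exists_singular (LinearMap.BilinMap.toQuadraticMap (LinearMap.mk₂ K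
    (fun x y => h.b (a • x) y) (fun _ _ _ => by rw [smul_add, h.add_left]) (fun _ _ _ => by
      rw [smul_comm, h.smul_left, smul_eq_mul]) (fun _ _ _ => h.add_right _ _ _) fun _ _ _ => by
      rw [h.smul_right, o.tau, smul_eq_mul])) h3
  replace hv : h.b (a • v) v = 0 := hv
  obtain ⟨c, hc⟩ := fixK o d hθ u0 hu (z := f.β v v) (by
    conv_rhs => rw [f.β_swap o, ← mul_assoc, sE o, one_mul])
  rw [f.b_eq, f.β_smul_left, hc, mul_smul_comm, map_smul, smul_eq_zero_iff_left ha] at hv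
  rw [hv, zero_smul] at hc
  refine ⟨v, v0, hc, fun z => ?_⟩
  rw [f.qf_eq o d.mem d.L]
  rcases o.alt with e | e
  · rw [e.2, zero_mul]
  rw [f.β_self o d.mem d.L, e.1, map_one, one_mul] at hc
  obtain ⟨c, hc⟩ := fixK o d hθ (sub_ne_zero.2 hθ) h1 (z := z * f.σ z * f.β v (h.ap l v)) (by
    rw [map_mul, map_mul, f.σ_σ, eq_neg_of_add_eq_zero_right hc]; ring)
  rw [hc, map_smul, map_sub, f.T_σ o, sub_self, smul_zero, mul_zero]

theorem span_eq (hσ : ∀ θ, f.σ θ = θ) : ∃ v w : V, ∀ x, ∃ a b : E, x = a • v + b • w := by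
  have : Module.Finite E V := Module.Finite.of_finite
  by_cases h3 : 3 ≤ finrank E V
  · obtain ⟨v, v0, hv⟩ := H181.StdBasis.exists_singular (LinearMap.BilinMap.toQuadraticMap (LinearMap.mk₂ E
      (fun x y => f.β x (h.ap l y)) (fun _ _ _ => f.β_add_left _ _ _) (fun _ _ _ => f.β_smul_left _ _ _)
      (fun _ _ _ => by rw [map_add, f.β_add_right]) fun _ _ _ => by
        rw [f.lin d.mem, f.β_smul_right, hσ, smul_eq_mul])) h3
    obtain ⟨w, -, -, hx⟩ := span o d (f.sing_of_q o d.mem d.L hv) v0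
    exact ⟨v, w, fun x => ⟨_, _, hx x⟩⟩
  obtain ⟨φ, hφ⟩ := (finrank_le_iff_exists_linearMap (R := E) (M := V) (M' := E × E)).1 (by
    rw [finrank_prod, finrank_self]; omega)
  obtain ⟨ψ, hψ⟩ := φ.exists_leftInverse_of_injective (LinearMap.ker_eq_bot.2 hφ)
  refine ⟨ψ (1, 0), ψ (0, 1), fun x => ⟨(φ x).1, (φ x).2, ?_⟩⟩
  rw [← map_smul, ← map_smul, ← map_add, ← show ψ (φ x) = x from LinearMap.congr_fun hψ x]
  simp [show ψ (φ x) = x from LinearMap.congr_fun hψ x]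

end Cfsg.Agent.TH.Cl.FSO.FE
end

-- part: TH/Cl/FldSO/Sp
section
/-!
# S3541, the groups `GU₂(q) < Sp₄(q)` and `Sp₂(q ^ r) < Sp₂ᵣ(q)` (helper94)
-/

set_option autoImplicit false
set_option linter.unusedSectionVars false

namespace Cfsg.Agent.TH.Cl.FSO.FE

open Cfsg.Agent.DS.Cl Cfsg.Agent.DS.Cl.Fwd Cfsg.Agent.SB.Cl Cfsg.Agent.SB.C2 Cfsg.Agent.TH.Cl.Fld Module
open Cfsg.Agent.SB.Tor (ap_zero ap_inv_ap ap_ap_inv)

local notation "cA" => Cfsg.Agent.DS.Cl.cj

theorem lt_pow {q r : ℕ} (hq : 2 ≤ q) (hr : 2 ≤ r) (h : r = 2 → 3 ≤ q) : r < q ^ (r - 1) := by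
  obtain ⟨n, rfl⟩ := Nat.exists_eq_add_of_le' hr
  rcases n with _ | n
  · exact (pow_one q).symm ▸ h rfl
  clear h hr
  change n + 3 < q ^ (n + 2)
  induction n with
  | zero => rw [zero_add, zero_add, pow_two]; nlinarith
  | succ n ih => rw [pow_succ]; nlinarith

variable {K V : Type} [Field K] [Fintype K] [AddCommGroup V] [Module K V] [Finite V] [Nontrivial V] {h : HF K V}
  {E : Type} [Field E] [Fintype E] [DecidableEq E] [Algebra K E] [Module E V] [IsScalarTower K E V] {f : FE h E}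
  {F : FR h.EB} {k r p : ℕ} {l : h.EB} {P : Subgroup h.EBˣ}

theorem cj_maps {g : h.EBˣ} {a : h.EB} {M : Set V} (hg : Set.MapsTo (h.ap g) M M) (ha : Set.MapsTo (h.ap a) M M) :
    Set.MapsTo (h.ap (cA h.EB g a)) M M := fun x hx => by
  obtain ⟨y, hy, rfl⟩ := (((Set.toFinite M).injOn_iff_bijOn_of_mapsTo hg).1
    (Function.LeftInverse.injective (ap_inv_ap h g)).injOn).surjOn hx
  rw [ap_cj]
  exact hg (ha hy)

variable (o : KSp h F k)
include o

/-- the transvections over `E` -/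
theorem sp_fam (S : Syl F f.ι.range r p P) {e : V} (he : f.β e e = 0) (hf : ∀ u ∈ P, h.ap u e = e) {π : h.EB}
    (hP : ∀ u ∈ P, (u : h.EB) * π = π * u) {X : Type} (c : X → E) (hc : ∀ x, f.σ (c x) = c x)
    (hi : ∀ x y, f.ι (c x - c y) * f.τ e e * π = π * (f.ι (c x - c y) * f.τ e e) → x = y) : Nat.card X ≤ r := by
  have a0 := f.τ_mem e e
  have a1 : star (f.τ e e) = -f.τ e e := h.ap_ext fun x => by
    rw [f.star_τ (KSp.so o), ap_neg, f.ap_τ, map_neg, map_one, neg_one_mul, neg_smul]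
  have a2 : f.τ e e * f.τ e e = 0 := h.ap_ext fun x => by
    rw [h.ap_mul, f.ap_τ e e x, f.lin a0, f.ap_τ, he, zero_smul, smul_zero, ap_zero]
  have a3 : ∀ u ∈ P, (u : h.EB) * f.τ e e = f.τ e e * u := fun u hu => h.ap_ext fun x => by
    rw [h.ap_mul, h.ap_mul, f.ap_τ, f.ap_τ, f.lin (f.syl_C S hu), ← f.β_iso (f.syl_C S hu) (S.iso hu).1, hf u hu]
  generalize f.τ e e = N at a0 a1 a2 a3 hi
  have a4 : ∀ z z', f.ι z * N * (f.ι z' * N) = 0 := fun z z' => by
    rw [f.mem_C.1 a0 z', mul_assoc, ← mul_assoc N, a2, zero_mul, mul_zero]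
  have a5 : ∀ x, star (f.ι (c x) * N) = -(f.ι (c x) * N) := fun x => by
    rw [star_mul, a1, f.star_ι, hc, f.mem_C.1 a0, neg_mul]
  let J : NonUnitalSubring h.EB :=
    { carrier := {j | ∃ z, j = f.ι z * N}
      add_mem' := by rintro _ _ ⟨z, rfl⟩ ⟨z', rfl⟩; exact ⟨z + z', by rw [map_add, add_mul]⟩
      zero_mem' := ⟨0, by rw [map_zero, zero_mul]⟩
      mul_mem' := by rintro _ _ ⟨z, rfl⟩ ⟨z', rfl⟩; exact ⟨0, by rw [a4, map_zero, zero_mul]⟩
      neg_mem' := by rintro _ ⟨z, rfl⟩; exact ⟨-z, by rw [map_neg, neg_mul]⟩ }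
  refine S.fam J ?_ ?_ ?_ π hP X (fun x => mkU _ (uni_one_add (a5 x) (a4 _ _)))
    (fun x => o.mem_comm (mem_Iso_max o.sp.2.2 (uni_one_add (a5 x) (a4 _ _))))
    (fun x => ⟨c x, add_sub_cancel_left _ _⟩) fun x y hxy => hi x y ?_
  · rintro _ ⟨z, rfl⟩
    exact ⟨2, by rw [pow_two, a4]⟩
  · rintro _ ⟨z, rfl⟩ _ ⟨y, rfl⟩
    exact f.mem_C.1 (mul_mem (f.ι_mem z) a0) y
  · rintro u hu _ ⟨z, rfl⟩
    exact ⟨z, cj_eq_of_mul (by rw [← mul_assoc, ← f.mem_C.1 (f.syl_C S hu), mul_assoc, a3 u hu, mul_assoc])⟩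
  · have b1 := congrArg (fun z => (cA h.EB (mkU _ (uni_one_add (a5 y) (a4 _ _))))⁻¹ z) hxy
    beta_reduce at b1
    rw [ra_inv_apply, ← map_inv, ← ra_mul, ← map_mul] at b1
    have b2 := cj_mul_eq ((mkU _ (uni_one_add (a5 y) (a4 _ _)))⁻¹ * mkU _ (uni_one_add (a5 x) (a4 _ _))) π
    rw [b1, Units.val_mul, star_eq_inv (u := mkU _ _) (uni_one_add (a5 y) (a4 _ _)), mkU_val, mkU_val, star_add, star_one,
      a5, add_mul, one_mul, neg_mul, mul_add (f.ι _ * N), a4, mul_one, add_zero, add_assoc, ← sub_eq_add_neg, ← sub_mul,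
      ← map_sub, mul_add, add_mul, mul_one, one_mul, add_right_inj] at b2
    exact b2.symm

variable (d : f.Dat F p l)
include d

omit d in
theorem three_le (h2 : finrank K E = 2) {v w : V} (hx : ∀ x, ∃ a b : E, x = a • v + b • w) : 3 ≤ Fintype.card K := by
  have h1 := finrank_le (K := K) hx
  have h3 := o.two
  rw [o.dim] at h1
  exact o.ne (by omega)

theorem sp_ne (h2 : finrank K E = 2) {θ : E} (hθ : f.σ θ ≠ θ) : False := by
  have s := KSp.so o
  obtain ⟨v₀, v0, hv⟩ := sing_ne s d hθ (by have := o.two; rw [o.dim]; omega)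
  obtain ⟨w₀, hw, h1, hx⟩ := span s d hv v0
  have h3 : f.β w₀ v₀ = -1 := by rw [f.β_swap s, h1, map_one, mul_one, map_neg, map_one]
  obtain ⟨v, a1, a2, a3⟩ : ∃ v, f.β v₀ v = 1 ∧ f.β v v₀ = -1 ∧ f.β v v ≠ 0 := ⟨θ • v₀ + w₀, by
    simp [f.β_add_right, f.β_smul_right, hv.1, h1], by simp [f.β_add_left, f.β_smul_left, hv.1, h3], fun e => hθ (by
      simp only [f.β_add_left, f.β_add_right, f.β_smul_left, f.β_smul_right, hv.1, hw.1, h1, h3] at e
      linear_combination -e)⟩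
  obtain ⟨g, hg, e⟩ := o.eich (e := v) (h.zero_left v) (-1)
  have e1 : (g : h.EB) = 1 + h.eb (h.ro v v) := h.ap_ext fun x => by
    rw [e, h.zero_right, h.ap_add, h.ap_one, h.ap_eb, h.ro_apply]; module
  have e2 : star (h.eb (h.ro v v)) = -h.eb (h.ro v v) := h.ap_ext fun x => by
    rw [s.star_ro, ap_neg, h.ap_eb, h.ro_apply]; module
  obtain ⟨P, S, hP⟩ := d.syl g hg
  obtain ⟨a, ha⟩ := f.exists_T a3
  have p1 := f.syl_comm S (π := f.τ v v) (a := a) (α := algebraMap K E (f.T (a * f.β v v))) ((map_ne_zero _).2 ha)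
    (fun u hu => hP u hu _ ⟨a, rfl⟩) (by
      rw [FR.Iso.cj_apply (F.comm_le_Iso hg), e1, star_add, star_one, e2, ← sub_eq_add_neg, f.av_conj, sub_right_inj,
        τ, ← f.av_left (f.ι_mem _)]
      refine congrArg _ (h.ap_ext fun x => ?_)
      simp only [h.ap_mul, h.ap_eb, h.ro_apply]
      rw [map_smul, h.smul_left, f.ap_ι, f.ap_ι, f.b_eq (a • v), f.β_smul_left]
      module)
  obtain ⟨_, ⟨y, rfl⟩, b1, b2⟩ := S.fix (LinearMap.range (h.ap (f.τ v v))).toAddSubgroup (by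
    rintro u hu _ ⟨y, rfl⟩
    exact ⟨_, (ap_comm (p1 u hu) y).symm⟩) (y := _) ⟨v₀, rfl⟩ (by
      rw [f.ap_τ, a1, one_smul]
      exact fun e => a3 (by rw [e, f.β_zero_left]))
  have b3 : ∀ x, h.ap (f.τ v v) x = 0 ↔ f.β x v = 0 := fun x => by
    rw [f.ap_τ, smul_eq_zero_iff_left fun e => a3 (by rw [e, f.β_zero_left])]
  obtain ⟨v'', b4, b5, b6⟩ := S.fix (LinearMap.ker (h.ap (f.τ v v))).toAddSubgroup (fun u hu x hx => by
      change h.ap _ _ = 0
      rw [← ap_comm (p1 u hu)]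
      exact (congrArg (h.ap u) hx).trans (map_zero _)) (y := f.β v v • v₀ - v)
    ((b3 _).2 (by rw [f.β_sub_left, f.β_smul_left, a1, mul_one, sub_self])) fun e => by
      simpa [f.β_sub_left, f.β_smul_left, hv.1, a2, f.β_zero_left] using congrArg (f.β · v₀) e
  have b7 := f.fix2 S (hx _) (hx _) b2 b6 (by
    rw [f.ap_τ, f.β_smul_left, f.β_smul_right]
    have b7 := (b3 y).not.1 b1
    exact mul_ne_zero b7 (mul_ne_zero ((map_ne_zero _).2 b7) a3)) (by
    rw [f.ap_τ, f.β_smul_right, (b3 _).1 b4, mul_zero]) b5 hv.1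
  have b8 := sp_fam o S hv.1 b7 p1 (algebraMap K E) (f.σ_alg s) fun x y hxy => by
    have b8 := congrArg (h.ap · v₀) hxy
    simp only [h.ap_mul, f.ap_τ, f.ap_ι, a1, a2, hv.1, one_smul, zero_smul, smul_zero, f.β_zero_left] at b8
    rw [smul_eq_zero_iff_left (smul_ne_zero (neg_ne_zero.2 one_ne_zero) v0), sub_eq_zero] at b8
    exact (algebraMap K E).injective b8
  have b9 := three_le o h2 fun x => ⟨_, _, hx x⟩
  rw [Nat.card_eq_fintype_card] at b8
  omega

theorem sp_eq (hσ : ∀ θ, f.σ θ = θ) : False := by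
  have s := KSp.so o
  have h0 : ∀ x, f.Sing F 0 x := fun x => ⟨by rw [f.β_self s d.mem d.L, hσ, map_neg, map_one]; ring, fun _ => zero_mul _⟩
  obtain ⟨v, v0⟩ := exists_ne (0 : V)
  obtain ⟨w, -, h1, hx⟩ := span s d (h0 v) v0
  have h2 := (lt_pow Fintype.one_lt_card d.prime.two_le fun e => three_le o e fun x => ⟨_, _, hx x⟩).trans_le f.pow_le_ker
  obtain ⟨b, b0, b1, b2⟩ : ∃ b : E, b ≠ 0 ∧ b ≠ -1 ∧ f.T b = 0 := by
    have := Fintype.ofFinite (LinearMap.ker f.T)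
    obtain ⟨x, y, z, a1, a2, a3⟩ := Fintype.two_lt_card_iff.1 ((d.prime.two_le.trans_lt h2).trans_eq Nat.card_eq_fintype_card)
    by_contra hc
    push Not at hc
    have a4 : ∀ t : LinearMap.ker f.T, t.1 = 0 ∨ t.1 = -1 := fun t => by have := hc t; have := t.2; tauto
    rw [Ne, Subtype.ext_iff] at a1 a2 a3
    rcases a4 x with e | e <;> rcases a4 y with e' | e' <;> rcases a4 z with e'' | e'' <;> rw [e] at a1 a2 <;>
      rw [e'] at a1 a3 <;> rw [e''] at a2 a3 <;> contradiction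
  obtain ⟨g, hg, e1, e2⟩ := f.exists_g s (h0 v) (h0 w) h1 b2 (Or.inl (hσ b))
  obtain ⟨P, S, hP⟩ := d.syl g hg
  obtain ⟨a, ha⟩ := f.exists_T b0
  obtain ⟨e, -, e0, he⟩ := S.fix ⊤ (fun _ _ _ _ => trivial) (y := v) trivial v0
  have a1 : ∀ y, (y = v ∨ y = w) → Set.MapsTo (h.ap (cA h.EB g (f.ι a))) {x | f.β x y = 0} {x | f.β x y = 0} :=
    fun y hy => cj_maps (fun x (hx' : _ = _) => by
      change f.β _ y = 0
      rw [e1, ← algebraMap_smul E, ← algebraMap_smul E (_ * _), f.β_sub_left, f.β_add_left, f.β_smul_left,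
        f.β_smul_left, f.β_smul_left]
      rcases hy with rfl | rfl <;> simp only [hx', (h0 _).1, _root_.MulZeroClass.mul_zero, _root_.add_zero, _root_.map_zero, _root_.MulZeroClass.zero_mul, _root_.sub_self, _root_.neg_mul, _root_.one_mul, _root_.map_neg])
      fun x (hx : _ = _) => by
      change f.β _ y = 0
      rw [f.ap_ι, f.β_smul_left, hx, mul_zero]
  have a2 : cA h.EB g (f.ι a) ∉ f.C := fun a2 => by
    have a3 := congrArg (h.ap · v) ((f.av_of_mem a2).symm.trans (e2 a))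
    have a4 := ap_cj g (f.ι a) v
    simp only [e1, f.ap_ι, f.β_smul_left, h1, (h0 _).1, mul_one, mul_zero, map_zero, b2, zero_smul, add_zero,
      sub_zero] at a4
    simp only [a4, h.ap_sub, h.ap_mul, h.ap_add, f.ap_ι, f.ap_τ, f.star_τ s, h1, (h0 _).1, mul_zero, zero_smul, add_zero,
      one_smul] at a3
    rw [mul_comm b, sub_eq_add_neg, add_right_inj, smul_assoc, ← smul_neg] at a3
    refine b1 (smul_left_injective E v0 ?_)
    change b • v = (-1 : E) • v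
    exact (neg_eq_iff_eq_neg.1 (smul_right_injective V ha a3).symm).trans (neg_one_smul E v).symm
  replace hP := fun u hu => hP u hu _ ⟨a, rfl⟩
  generalize cA h.EB g (f.ι a) = π at a1 a2 hP
  let B : Subalgebra K E :=
    { carrier := {t | f.ι t * π = π * f.ι t}
      mul_mem' := fun {x y} (hx : _ = _) (hy : _ = _) => show _ = _ by rw [map_mul, mul_assoc, hy, ← mul_assoc, hx, mul_assoc]
      add_mem' := fun {x y} (hx : _ = _) (hy : _ = _) => show _ = _ by rw [map_add, add_mul, hy, hx, mul_add]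
      algebraMap_mem' := fun c => h.ap_ext fun x => by
        rw [h.ap_mul, h.ap_mul, f.ap_ι, f.ap_ι, algebraMap_smul, algebraMap_smul, map_smul] }
  have a3 : B = ⊥ := ((Subalgebra.isSimpleOrder_of_finrank_prime K E d.prime).eq_bot_or_eq_top B).resolve_right
    fun e => a2 (f.mem_C.2 fun z => e.ge (Algebra.mem_top (x := z)))
  obtain ⟨c₁, c0, c1⟩ : ∃ c₁ : E, c₁ ≠ 0 ∧ ∀ c, f.ι c * f.τ e e * π = π * (f.ι c * f.τ e e) → ∃ t : K, c = t • c₁ := by
    by_cases c2 : ∃ c₁ : E, c₁ ≠ 0 ∧ f.ι c₁ * f.τ e e * π = π * (f.ι c₁ * f.τ e e)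
    swap
    · exact ⟨1, one_ne_zero, fun c hc => ⟨0, by rw [zero_smul]; exact not_not.1 fun c0 => c2 ⟨c, c0, hc⟩⟩⟩
    obtain ⟨c₁, c0, c1⟩ := c2
    refine ⟨c₁, c0, fun c hc => ?_⟩
    obtain ⟨t, rfl⟩ : ∃ t, c = t * c₁ := ⟨c / c₁, (div_mul_cancel₀ _ c0).symm⟩
    suffices c3 : t ∈ B by
      obtain ⟨t, rfl⟩ := Algebra.mem_bot.1 (a3.le c3)
      exact ⟨t, (Algebra.smul_def _ _).symm⟩
    have c3 : ∀ c, f.ι c * f.τ e e * π = π * (f.ι c * f.τ e e) → ∀ x,
        (c * f.β (h.ap π x) e) • e = h.ap π ((c * f.β x e) • e) := fun c hc x => by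
      simpa only [h.ap_mul, f.ap_ι, f.ap_τ, smul_smul] using congrArg (h.ap · x) hc
    have c4 : ∀ z : E, t • h.ap π (z • e) = h.ap π (t • z • e) := fun z => by
      obtain ⟨y, hy⟩ := f.exists_β e0
      have c4 : z = c₁ * f.β ((z / c₁) • y) e := by rw [f.β_smul_left, hy, mul_one, mul_div_cancel₀ _ c0]
      rw [c4, smul_smul, ← mul_assoc, ← c3 _ hc, ← c3 _ c1, smul_smul, mul_assoc]
    have c5 : ∀ x, f.β (t • h.ap π x - h.ap π (t • x)) e = 0 := fun x => by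
      have c5 := (c3 _ c1 (t • x)).trans (by rw [f.β_smul_left, mul_left_comm, ← mul_assoc, ← c3 _ hc])
      rw [f.β_sub_left, f.β_smul_left, sub_eq_zero]
      exact mul_left_cancel₀ c0 ((mul_left_comm _ _ _).trans ((mul_assoc _ _ _).symm.trans
        (smul_left_injective E e0 c5).symm))
    have c6 : ∀ y, (y = v ∨ y = w) → ∀ z : E, t • h.ap π (z • y) = h.ap π (t • z • y) := fun y hy z => by
      have c6 : ∀ x, f.β x y = 0 → ∃ z : E, x = z • y := fun x c6 => by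
        rcases hy with rfl | rfl
        · exact ⟨_, (hx x).trans (by rw [c6, mul_zero, zero_smul, add_zero])⟩
        · exact ⟨_, (hx x).trans (by rw [c6, zero_smul, zero_add])⟩
      by_cases c7 : f.β y e = 0
      · obtain ⟨z', c8⟩ := c6 e (f.orth s c7)
        rw [← div_mul_cancel₀ z (left_ne_zero_of_smul (c8 ▸ e0) : z' ≠ 0), mul_smul, ← c8, c4]
      obtain ⟨z', c8⟩ := c6 (t • h.ap π (z • y) - h.ap π (t • z • y)) (by
        rw [f.β_sub_left, f.β_smul_left, a1 y hy (show f.β (z • y) y = 0 by rw [f.β_smul_left, (h0 y).1, mul_zero]),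
          a1 y hy (show f.β (t • z • y) y = 0 by rw [f.β_smul_left, f.β_smul_left, (h0 y).1, mul_zero, mul_zero]),
          mul_zero, sub_zero])
      have c9 := c5 (z • y)
      rw [c8, f.β_smul_left, mul_eq_zero_iff_right c7] at c9
      rwa [c9, zero_smul, sub_eq_zero] at c8
    refine h.ap_ext fun x => ?_
    rw [h.ap_mul, h.ap_mul, f.ap_ι, f.ap_ι, hx x, smul_add, map_add, map_add, smul_add, c6 v (Or.inl rfl),
      c6 w (Or.inr rfl)]
  obtain ⟨z, hz⟩ := f.exists_T c0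
  have z0 : z ≠ 0 := fun e => hz (by rw [e, zero_mul, map_zero])
  refine h2.not_ge (sp_fam o S (h0 e).1 he hP (fun x : LinearMap.ker f.T => x.1 / z) (fun _ => hσ _) fun x y hxy => ?_)
  obtain ⟨t, ht⟩ := c1 _ hxy
  rw [← sub_div, div_eq_iff z0, smul_mul_assoc, mul_comm] at ht
  have a4 := congrArg f.T ht
  rw [map_sub, x.2, y.2, sub_zero, map_smul, eq_comm, smul_eq_zero_iff_left hz] at a4
  rw [a4, zero_smul, sub_eq_zero] at ht
  exact Subtype.ext ht

end Cfsg.Agent.TH.Cl.FSO.FE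
end

-- part: TH/Cl/FldSO/Main
section
/-!
# S3541, symplectic and orthogonal groups: no invariant commutative subring (helper94)

`boxFldSp`, `boxFldO`.
-/

set_option autoImplicit false
set_option linter.unusedSectionVars false

namespace Cfsg.Agent.TH.Cl

open Cfsg.Agent.DS.Cl Cfsg.Agent.DS.Cl.Fwd Cfsg.Agent.SB.Cl Cfsg.Agent.SB.C2 Cfsg.Agent.TH.Cl.Fld Module
open scoped commutatorElement

namespace FSO

local notation "cA" => Cfsg.Agent.DS.Cl.cj

variable {K V : Type} [Field K] [Fintype K] [AddCommGroup V] [Module K V] [Finite V] [Nontrivial V] {h : HF K V}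
  {F : FR h.EB} {G H : Subgroup (RingAut h.EB)} {m p : ℕ} {s κ : K}

theorem comm_fix {A : Type} [Ring A] [Finite A] {W : Subring A} (hW : IsF W) {γ δ : RingAut A} {M : Subgroup (RingAut A)}
    (hM : _root_.Cfsg.Agent.DS.Cl.Inv M W) (hγ : γ ∈ M) (hδ : δ ∈ M) : ⁅γ, δ⁆ ∈ DS.Cl.Fix (W : Set A) := fun x hx => by
  rw [commutatorElement_def, ra_mul, ra_mul, ra_mul, comm_on_dom W hW.comm (fun _ => hW.isUnit) (hM γ hγ)
    (hM δ hδ) _ (hM _ (inv_mem hγ) _ (hM _ (inv_mem hδ) x hx)), ra_apply_inv, ra_apply_inv]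

theorem alg_cen (c : K) : h.eb (algebraMap K (End K V) c) ∈ Subring.center h.EB := by
  rw [Algebra.algebraMap_eq_smul_one]
  exact h.smul_mem_center c

variable (h F H p) in
/-- an invariant field of prime degree -/
def Ex (P : Prop) : Prop := ∃ (E : Type) (_ : Field E) (_ : Fintype E) (_ : DecidableEq E) (_ : Algebra K E) (_ : Module E V)
  (_ : IsScalarTower K E V) (f : FE h E) (l : h.EB), f.Dat F p l ∧ _root_.Cfsg.Agent.DS.Cl.Inv H f.ι.range ∧
    (finrank K E = 2 ∨ (P ∧ ∀ θ, f.σ θ = θ))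

theorem setup (c : Ctx F G H m p) (hI : Irr1 H) {W : Subring h.EB} (hW : IsF W) (h1 : ComSub W) (hi : _root_.Cfsg.Agent.DS.Cl.Inv H W) {r : ℕ}
    (hr : r.Prime) (hc : Nat.card W = Nat.card K ^ r) {P : Prop} (hs : r = 2 ∨ (P ∧ ∀ x ∈ W, star x = x)) :
    Ex h F H p P := by
  classical
  have := c.ss.nontrivial
  let := hW.isField.toField
  have := Fintype.ofFinite W
  let : Algebra K W := (RingHom.codRestrict (R := K) (S := h.EB) (algebraMap K (End K V)) W
    fun c => h1.1 (alg_cen c)).toAlgebra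
  let : Module W V := Module.compHom V (show W →+* End K V from W.subtype)
  have : IsScalarTower K W V := ⟨fun _ _ _ => rfl⟩
  let f : FE h W :=
    { ι := W.subtype
      σ :=
        { toFun := fun z => ⟨star z, h1.2.1 _ z.2⟩
          map_one' := Subtype.ext (star_one _)
          map_mul' := fun x y => Subtype.ext ((star_mul x.1 y.1).trans (hW.comm _ (h1.2.1 _ y.2) _ (h1.2.1 _ x.2)))
          map_zero' := Subtype.ext (star_zero _)
          map_add' := fun x y => Subtype.ext (star_add x.1 y.1) }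
      ap_ι := fun _ _ => rfl
      star_ι := fun _ => rfl }
  have e : f.ι.range = W := W.range_subtype
  have h2 : finrank K W = r := Nat.pow_right_injective (Finite.one_lt_card (α := K))
    ((Module.natCard_eq_pow_finrank (K := K) (V := W)).symm.trans hc)
  obtain ⟨B, -, b1, b2⟩ := exists_bd_fld c.ss F c.H_le_Aut hI.1 hI.2 h1.2.1 h1.2.2 hi
  refine ⟨W, _, inferInstance, inferInstance, _, _, inferInstance, f, B.l, ⟨?_, by rw [FE.C, e]; exact (b1 _).1 B.l_mem, b2, h2 ▸ hr⟩, e.symm ▸ hi,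
    hs.imp h2.trans fun hs => ⟨hs.1, fun θ => Subtype.ext (hs.2 _ θ.2)⟩⟩
  rw [e]
  refine allSyl c hi (fun hS => ?_) fun M hM => ?_
  · have h3 : W ≤ Subring.center h.EB := fun z hz => FR.cen_of_S c.span fun s hs =>
      Subgroup.commutator_le.2 (fun _ hγ _ hδ => comm_fix hW hS hγ hδ) (perfect_of_simple c.simple c.noncomm hs) z hz
    have h4 := card_le_of_le h3
    rw [hc, card_center (A := h.EB) (RingEquiv.refl (End K V))] at h4
    exact h4.not_gt (by simpa using Nat.pow_lt_pow_right (Finite.one_lt_card (α := K)) hr.one_lt)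
  · have h3 : _root_.Cfsg.Agent.DS.Cl.Inv M W := fun γ hγ => hi γ (hM hγ).1
    let φ : M →* (W ≃ₐ[K] W) :=
      { toFun := fun γ => AlgEquiv.ofRingEquiv (f := resW W h3 γ) fun c => Subtype.ext
          (F.PI_le_Lin (F.S_le_PI (hM γ.2).2) _ (alg_cen c))
        map_one' := rfl
        map_mul' := fun _ _ => rfl }
    rw [Subgroup.relIndex, ← IsGalois.card_aut_eq_finrank, show (DS.Cl.Fix (W : Set h.EB)).subgroupOf M = φ.ker from
      Subgroup.ext fun γ => (resW_eq_one h3).symm.trans ⟨fun e => AlgEquiv.ext (RingEquiv.congr_fun e),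
        fun e => RingEquiv.ext (AlgEquiv.congr_fun e)⟩, Subgroup.index_ker]
    exact Subgroup.card_le_card_group _

variable (o : SO h F s κ) (c : Ctx F G H m p) (hI : Irr1 H)
  (hp : ∀ ε : h.EB, _root_.Cfsg.Agent.DS.Cl.Inv H {ε, star ε} → ε * ε = ε → ε + star ε = 1 → False)
include o c hI hp

omit c hI hp in
theorem cen_sym {z : h.EB} (hz : z ∈ Subring.center h.EB) : star z = z := by
  obtain ⟨c, hc⟩ := SB.Tor.exists_sc h hz
  exact h.ap_ext fun y => h.ext_right fun x => by rw [h.b_star, hc, hc, h.smul_left, h.smul_right, o.tau]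

theorem ex_two {Z : Subring h.EB} (hZ : ComSub Z) (hi : _root_.Cfsg.Agent.DS.Cl.Inv H Z) (hn : ∃ z ∈ Z, star z ≠ z) (P : Prop) :
    Ex h F H p P := by
  have := c.ss.nontrivial
  have hs := ss_of_inv c.ss c.le_SAut hI.1 hI.2 hZ.2.1 hi
  set B := Blk.ofSubring Z hZ.2.1
  have h1 : ∀ x : B.T, x ∈ Subring.center B.T := fun x => B.mem_center_iff.2 fun y hy => hZ.2.2 y hy _ (B.val_mem x)
  have h2 : IsF Z := ⟨hZ.2.2, fun x hx h0 => by
    refine (Blk.isUnit_val (hs.isUnit_of_not_eps (fun ⟨ε, hε⟩ => ?_) (h1 (B.mk' x hx))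
      fun e => h0 (congrArg B.val e))).imp fun y hy => ⟨hy.1, hy.2.1⟩
    have a1 : B.val ε * B.val ε = B.val ε := congrArg B.val hε.idem
    have a2 : B.val ε + star (B.val ε) = 1 := congrArg B.val hε.add
    have a3 : ∀ γ ∈ H, γ (B.val ε) = B.val ε ∨ γ (B.val ε) = star (B.val ε) := fun γ hγ =>
      (hs.eps_unique hε (ε' := B.mk' _ (hi γ hγ _ (B.val_mem ε))) ⟨h1 _, B.val_inj (by
        change γ _ * γ _ = γ _
        rw [← map_mul, a1]), B.val_inj (by
        change γ _ + star (γ _) = 1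
        rw [← c.le_SAut hγ, ← map_add, a2, map_one])⟩).imp (congrArg B.val) (congrArg B.val)
    refine hp _ ?_ a1 a2
    rintro γ hγ _ (rfl | rfl)
    · exact a3 γ hγ
    · rw [c.le_SAut hγ]
      rcases a3 γ hγ with h4 | h4 <;> rw [h4]
      · exact Or.inr rfl
      · exact Or.inl (star_star _)⟩
  obtain ⟨t, t0, ht⟩ := h2.quad (A := h.EB) (RingEquiv.refl (End K V)) hZ.1 hZ.2.1 (fun _ => cen_sym o) hn
  have hq : 2 ≤ Nat.card K := Finite.one_lt_card
  obtain ⟨W, a1, a2, a3⟩ := h2.sub t0 (hq.trans (Nat.le_self_pow two_ne_zero _)) ht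
  refine setup c hI a2 ⟨fun x hx => (a1 x).2 ⟨hZ.1 hx, ?_⟩, fun x hx => (a1 _).2 ⟨hZ.2.1 x ((a1 x).1 hx).1, by
    rw [← star_pow, ((a1 x).1 hx).2]⟩, a2.comm⟩ (fun γ hγ x hx => (a1 _).2 ⟨hi γ hγ x ((a1 x).1 hx).1, by
    rw [← map_pow, ((a1 x).1 hx).2]⟩) Nat.prime_two a3 (Or.inl rfl)
  have a4 := pow_card (isF_of_le h2 hZ.1) hx
  rw [card_center (A := h.EB) (RingEquiv.refl (End K V))] at a4
  rw [pow_two, pow_mul, a4, a4]

theorem ex_all (hF : FldD H) : Ex h F H p True := by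
  obtain ⟨-, Z, hZ, hn, hi⟩ := hF
  rcases exists_symF c.ss c.le_SAut hI hZ hi with e | ⟨W, r, hW, -, hi'⟩
  · refine ex_two o c hI hp hZ hi ?_ _
    by_contra a1
    push Not at a1
    exact hn fun x hx => e x hx (a1 x hx)
  have h1 : C0 h.EB = Subring.center h.EB := le_antisymm (fun _ hx => hx.1) fun _ hx => ⟨hx, cen_sym o hx⟩
  exact setup c hI hW.isF ⟨h1 ▸ hW.le, fun x hx => by rwa [hW.sym x hx], hW.isF.comm⟩ hi' hW.prime
    (by rw [hW.card, h1, card_center (A := h.EB) (RingEquiv.refl (End K V))]) (Or.inr ⟨trivial, hW.sym⟩)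

end FSO

namespace FSO.FE

local notation "cA" => Cfsg.Agent.DS.Cl.cj

variable {K V : Type} [Field K] [Fintype K] [AddCommGroup V] [Module K V] [Finite V] [Nontrivial V] {h : HF K V}
  {E : Type} [Field E] [Fintype E] [DecidableEq E] [Algebra K E] [Module E V] [IsScalarTower K E V] {f : FE h E}
  {F : FR h.EB} {G H : Subgroup (RingAut h.EB)} {m p : ℕ} {l : h.EB} {Q : QuadraticForm K V} (o : KO h F Q)
  (d : f.Dat F p l)
include o d

theorem o_two (h2 : finrank K E = 2) : False := by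
  have h1 := o.dim
  obtain ⟨v, w, hx⟩ : ∃ v w : V, ∀ x, ∃ a b : E, x = a • v + b • w := by
    by_cases hσ : ∀ θ, f.σ θ = θ
    · exact span_eq (KO.so o) d hσ
    obtain ⟨θ, hθ⟩ := not_forall.1 hσ
    obtain ⟨v, v0, hv⟩ := sing_ne (KO.so o) d hθ (by omega)
    obtain ⟨w, -, -, hx⟩ := span (KO.so o) d hv v0
    exact ⟨v, w, fun x => ⟨_, _, hx x⟩⟩
  have := finrank_le (K := K) hx
  omega

variable (hσ : ∀ θ, f.σ θ = θ)
include hσ

/-- the torus of `O₂^±(E)` -/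
theorem o_comm {y : h.EB} (hy : y ∈ f.C) (hL : y ∈ F.L) : l * y = y * l := by
  obtain ⟨v, w, hx⟩ := span_eq (KO.so o) d hσ
  have h1 : ∀ y ∈ f.C, y ∈ F.L → ∀ x, f.β x (h.ap y x) = 0 := fun y hy hL x => by
    rw [o.o.2.2.1] at hL
    obtain ⟨a, rfl⟩ := hL
    rw [← f.av_of_mem hy, map_sub, f.av_star, h.ap_sub, f.β_sub_right, f.β_star (f.av_mem a), f.β_swap (KO.so o), hσ,
      map_one, one_mul, sub_self]
  have h2 : ∀ y ∈ f.C, (∀ x, f.β x (h.ap y x) = 0) → f.β v (h.ap y w) = 0 → y = 0 := fun y hy h2 h3 => by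
    have h4 := h2 (v + w)
    rw [map_add, f.β_add_left, f.β_add_right, f.β_add_right, h2, h2, h3, add_zero, add_zero, zero_add] at h4
    refine h.ap_ext fun x => f.β_ext fun x' => ?_
    obtain ⟨a, b, rfl⟩ := hx x
    obtain ⟨a', b', rfl⟩ := hx x'
    simp [f.lin hy, f.β_add_left, f.β_add_right, f.β_smul_left, f.β_smul_right, h2, h3, h4, SB.Tor.ap_zero, f.β_zero_right]
  have h3 := sub_mem d.mem (f.star_mem d.mem)
  have h4 := h1 _ h3 (F.sub_star_mem l)
  have h5 : l - star l = l + l - 1 := by rw [eq_sub_of_add_eq' (l_add d.L)]; abel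
  rw [h5] at h3 h4
  by_cases h6 : f.β v (h.ap (l + l - 1) w) = 0
  · have h7 := sub_eq_zero.1 (h2 _ h3 h4 h6)
    rw [← mul_one (l * y), ← h7, ← one_mul (y * l), ← h7]
    noncomm_ring
  have h7 := sub_eq_zero.1 (h2 (f.ι (f.β v (h.ap (l + l - 1) w)) * y - f.ι (f.β v (h.ap y w)) * (l + l - 1))
    (sub_mem (mul_mem (f.ι_mem _) hy) (mul_mem (f.ι_mem _) h3)) (fun x => by
      simp only [h.ap_sub _ (_ * _), h.ap_mul, f.ap_ι, f.β_sub_right, f.β_smul_right, h1 y hy hL, h4, mul_zero, sub_zero])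
    (by simp only [h.ap_sub _ (_ * _), h.ap_mul, f.ap_ι, f.β_sub_right, f.β_smul_right, hσ]; ring))
  refine ((IsUnit.mk0 _ h6).map f.ι).mul_left_cancel ?_
  rw [← mul_assoc, f.mem_C.1 d.mem, mul_assoc, ← mul_assoc _ y, h7, ← mul_assoc, ← f.mem_C.1 d.mem]
  noncomm_ring

theorem o_eq (c : Ctx F G H m p) (hi : _root_.Cfsg.Agent.DS.Cl.Inv H f.ι.range) :
    ∃ Z : Subring h.EB, ComSub Z ∧ _root_.Cfsg.Agent.DS.Cl.Inv H Z ∧ ∃ z ∈ Z, star z ≠ z := by
  let X : Set h.EB := {x | x ∈ f.C ∧ F.l - x ∈ F.L}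
  have h1 : X ⊆ Subring.centralizer X := fun x hx y hy => by
    have h1 := o_comm o ⟨d.syl, hy.1, hy.2, d.prime⟩ hσ (sub_mem hx.1 hy.1) (by
      have := F.L.sub_mem hy.2 hx.2
      rwa [sub_sub_sub_cancel_left] at this)
    rwa [mul_sub, sub_mul, sub_left_inj] at h1
  refine ⟨Subring.centralizer (Subring.centralizer X : Set h.EB), ⟨Subring.center_le_centralizer _,
    star_centralizer (star_centralizer fun x hx => ⟨f.star_mem hx.1, ?_⟩), fun x hx y hy => hy x fun z hz => hx z (h1 hz)⟩,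
    inv_centralizer (inv_centralizer fun γ hγ x hx => ⟨inv_centralizer hi γ hγ x hx.1, ?_⟩), ?_⟩
  · have := F.L.add_mem hx.2 (F.sub_star_mem x)
    rwa [sub_add_sub_cancel] at this
  · have := F.L.sub_mem (F.map_mem (c.le_SAut hγ) hx.2) (c.H_le_Aut hγ).2
    rwa [map_sub, sub_sub_sub_cancel_left] at this
  by_contra h2
  push Not at h2
  replace h2 : ∀ x ∈ X, x + x = 1 := fun x hx => by
    have h3 := l_add hx.2
    rwa [h2 x fun y hy => (hy x hx).symm] at h3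
  have h3 : ∀ a ∈ f.C, star a = a := fun a ha => by
    have h3 := h2 (l + (a - star a)) ⟨add_mem d.mem (sub_mem ha (f.star_mem ha)), by
      rw [← sub_sub]; exact F.L.sub_mem d.L (F.sub_star_mem a)⟩
    have h4 := h2 l ⟨d.mem, d.L⟩
    rw [add_add_add_comm, h4, add_eq_left] at h3
    rw [eq_comm, ← sub_eq_zero, ← one_mul (a - star a), ← h4, add_mul, ← mul_add, h3, mul_zero]
  obtain ⟨⟨x, y⟩, hxy⟩ := f.exists_one
  have h4 : ∀ u, u = f.β x u • y := fun u => by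
    have h4 := f.star_τ (KO.so o) u y x
    rwa [h3 _ (f.τ_mem u y), f.ap_τ, hxy, one_smul, map_one, one_mul] at h4
  have h5 : IsF f.ι.range := ⟨by rintro _ ⟨a, rfl⟩ _ ⟨b, rfl⟩; rw [← map_mul, ← map_mul, mul_comm], by
    rintro _ ⟨a, rfl⟩ ha
    exact ⟨_, ⟨a⁻¹, rfl⟩, by rw [← map_mul, mul_inv_cancel₀ fun e => ha (by rw [e, map_zero]), map_one]⟩⟩
  refine c.inf_not_comm fun γ hγ δ hδ => commutatorElement_eq_one_iff_mul_comm.1 ?_
  have h6 := comm_fix h5 hi hγ.1 hδ.1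
  obtain ⟨u, hu, e⟩ : ⁅γ, δ⁆ ∈ F.S := mul_mem (mul_mem (mul_mem hγ.2 hδ.2) (inv_mem hγ.2)) (inv_mem hδ.2)
  rw [← e] at h6 ⊢
  have h7 : (u : h.EB) ∈ f.C := f.mem_C.2 fun z => by rw [← cj_mul_eq u, h6 _ ⟨z, rfl⟩]
  have h8 : (u : h.EB) = f.ι (f.β x (h.ap u y)) := h.ap_ext fun z => by
    rw [f.ap_ι, h4 z, f.lin h7, smul_comm, ← h4]
  have h9 := (F.comm_le_Iso hu).1
  rw [h3 _ h7, h8, ← map_mul, ← map_one f.ι] at h9
  refine RingEquiv.ext fun z => cj_eq_of_mul ?_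
  rcases mul_self_eq_one_iff.1 (f.ι_inj h9) with e | e <;> rw [h8, e] <;> simp only [_root_.map_one, _root_.one_mul, _root_.RingAut.one_apply, _root_.mul_one, _root_.map_neg, _root_.neg_mul, _root_.mul_neg]

end FSO.FE

open FSO

/-- **[C-Fld]**, symplectic groups -/
theorem boxFldSp : BoxFldSp := fun K V _ _ _ _ _ h F k G H m p o c hF => by
  have : Nontrivial V := Module.nontrivial_of_finrank_pos (R := K) (by have := o.two; rw [o.dim]; omega)
  obtain ⟨E, _, _, _, _, _, _, f, l, d, -, h1⟩ := ex_all (KSp.so o) c hF.1 (fun _ => KSp.pair o c hF.1.1) hF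
  by_cases hσ : ∀ θ, f.σ θ = θ
  · exact FE.sp_eq o d hσ
  · obtain ⟨θ, hθ⟩ := not_forall.1 hσ
    exact FE.sp_ne o d (h1.resolve_right fun e => hσ e.2) hθ

/-- **[C-Fld]**, orthogonal groups -/
theorem boxFldO : BoxFldO := fun K V _ _ _ _ _ h F Q G H m p o c hF => by
  have : Nontrivial V := Module.nontrivial_of_finrank_pos (R := K) (by have := o.dim; omega)
  obtain ⟨E, _, _, _, _, _, _, f, l, d, hi, h1 | h1⟩ := ex_all (KO.so o) c hF.1 (fun _ => KO.pair o c hF.1.1) hF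
  · exact FE.o_two o d h1
  obtain ⟨Z, a1, a2, a3⟩ := FE.o_eq o d h1.2 c hi
  obtain ⟨E, _, _, _, _, _, _, f, l, d, -, h1⟩ := ex_two (KO.so o) c hF.1 (fun _ => KO.pair o c hF.1.1) a1 a2 a3 False
  exact FE.o_two o d (h1.resolve_right fun e => e.1)

end Cfsg.Agent.TH.Cl
end

private theorem dce_e09c592ca4e0 : _root_.True := by
  try have : _root_.True := by simp only [_root_.Cfsg.Agent.TH.Cl.FSO.qf.eq_1]
  try have : _root_.True := by simp only [_root_.Cfsg.Agent.TH.Cl.FSO.FE.T.congr_simp]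
  try have : _root_.True := by simp only [_root_.Cfsg.Agent.TH.Cl.FSO.FE.C.eq_1]
  try have : _root_.True := by simp only [_root_.Cfsg.Agent.TH.Cl.FSO.FE.τ.eq_1]
  try have : _root_.True := by simp only [_root_.Cfsg.Agent.TH.Cl.FSO.FE.β.eq_1]
  try have : _root_.True := by simp only [_root_.Cfsg.Agent.TH.Cl.FSO.FE.av.congr_simp]
  try have : _root_.True := by simp only [_root_.Cfsg.Agent.TH.Cl.FSO.FE.τ.congr_simp]
  exact _root_.True.intro
end

-- part: TH/Ex/Ab/ZCLat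
section
prune_inst 0x21500040702202000000051612001826a2000000004304001ce0050201cfde22cd4226404b203c01180080002831006002000010425800002e000000000505218028520693480104660099803083180c00000000000000000000000000041000200000002
set_option linter.all false
open scoped Cfsg.Agent.FastGrp

/-!
# S3541, box ZC: the root lattice (helper97)

`KD D l r n Bm v` : the finite facts on `E₆` (`r = n = 3`) and `E₇` (`r = 2`, `n = 4`); `v / r` is a minuscule weight.

* `Nz n w` : `w + w⁻¹ = 2 - n`; `quad` : the elements acting quadratically on `Q / n P`; `cyc`;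
* `dv` : the cocycle `(w v - v) / r`.
-/

set_option autoImplicit false
set_option linter.unusedSectionVars false
set_option maxRecDepth 100000
set_option Elab.async false

namespace Cfsg.Agent.TH.Ab.ZC

open CoxeterSystem Cfsg Cfsg.Lie Cfsg.Lie.ChevalleyDatum
open Cfsg.Agent.ChevalleyStructure Cfsg.Agent.ChevalleyStructure.Elts Cfsg.Agent.ChevalleyStructure.CoxeterGeom
  Cfsg.Agent.ChevalleyStructure.CoxeterGeomTypes
open Cfsg.Agent.Tits.Roots Cfsg.Agent.Tits.Core Cfsg.Agent.Nodes Cfsg.Agent.Nodes.RGDChev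
open Cfsg.Agent.H129.TorusChar Cfsg.Agent.H129.WData Cfsg.Agent.H931.KC
open Cfsg.Agent.H92.NE (bl bl_apply bl_comm bl_sr bl_sr_sr FormOK bl_rep bl_add_left bl_sub_left bl_root)

/-- the finite facts -/
structure KD (D : ChevalleyDatum) (l r n : ℕ) (Bm : Mat l) (v : Fin l → ℤ) : Prop where
  pos : 0 < l
  form : FormOK D l Bm
  diag : ∀ i, Bm i i = 2
  dvd : ∀ i, (r : ℤ) ∣ pairing Bm i v
  mark : ∀ i, hr D l i = 1 → ¬ (r : ℤ) ∣ v i
  adj : ∀ i, ∃ j, Bm i j = -1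
  conn : ∀ f : Fin l → Bool, (∀ i j, f i = true → f j = false → Bm i j = 0) → (∀ i, f i = true) ∨ ∀ i, f i = false
  sep : ∀ (i : Fin l) (s : Fin D.nroots), (∀ j, (n : ℤ) ∣ pairing Bm j (vec D l s) - Bm j i) → ∀ j, vec D l s j = sr i j
  num : (r = 3 ∧ n = 3 ∧ ∀ (i : Fin l) (s : Fin D.nroots), (3 : ℤ) ∣ 4 - 2 * pairing Bm i (vec D l s) →
      (∀ j, vec D l s j = sr i j) ∨ pairing Bm i (vec D l s) = -1) ∨
    (r = 2 ∧ n = 4 ∧ ∀ (i : Fin l) (s : Fin D.nroots), (∀ j, (2 : ℤ) ∣ pairing Bm j (vec D l s) - Bm j i) →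
      (∀ j, vec D l s j = sr i j) ∨ ∀ j, vec D l s j = -sr i j)

/-- the form of `E₆` -/
def B6 : Mat 6 := ![![2, 0, -1, 0, 0, 0], ![0, 2, 0, -1, 0, 0], ![-1, 0, 2, -1, 0, 0],
    ![0, -1, -1, 2, -1, 0], ![0, 0, 0, -1, 2, -1], ![0, 0, 0, 0, -1, 2]]

/-- the form of `E₇` -/
def B7 : Mat 7 := ![![2, 0, -1, 0, 0, 0, 0], ![0, 2, 0, -1, 0, 0, 0], ![-1, 0, 2, -1, 0, 0, 0],
    ![0, -1, -1, 2, -1, 0, 0], ![0, 0, 0, -1, 2, -1, 0], ![0, 0, 0, 0, -1, 2, -1], ![0, 0, 0, 0, 0, -1, 2]]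

private noncomputable def _root_.Cfsg.Agent.LsF.f072335_0 : {f // @Cfsg.Agent.TH.Ab.ZC.B6 = f} := ⟨_, by first | (delta Cfsg.Agent.TH.Ab.ZC.B6; rewrite [Cfsg.Agent.LsF.ineg_pat, Cfsg.Agent.LsF.vecCons_eq]; exact rfl) | exact rfl⟩
private noncomputable def _root_.Cfsg.Agent.LsF.f072335_1 : {f // @Cfsg.Agent.ChevalleyStructure.RootVecTab.dig = f} := ⟨_, by first | (delta Cfsg.Agent.ChevalleyStructure.RootVecTab.dig; rewrite [Cfsg.Agent.LsF.nmul_pat]; exact rfl) | exact rfl⟩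
private noncomputable def _root_.Cfsg.Agent.LsF.f072335_2 : {f // @Cfsg.Agent.ChevalleyStructure.RootVecTab.packTab = f} := ⟨_, by first | (delta Cfsg.Agent.ChevalleyStructure.RootVecTab.packTab; rewrite [Cfsg.Agent.LsF.instDecEq_eq, Cfsg.Agent.LsF.ite_eq]; exact rfl) | exact rfl⟩
private noncomputable def _root_.Cfsg.Agent.LsF.f072335_3 : {f // @Cfsg.Agent.ChevalleyStructure.RootVecTab.code = f} := ⟨_, by first | (delta Cfsg.Agent.ChevalleyStructure.RootVecTab.code; rewrite [Cfsg.Agent.LsF.f072335_2.2, Cfsg.Agent.LsF.nmul_pat, Cfsg.Agent.LsF.npow_pat]; exact rfl) | exact rfl⟩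
private noncomputable def _root_.Cfsg.Agent.LsF.f072335_4 : {f // @Cfsg.Agent.ChevalleyStructure.RootVec.rt = f} := ⟨_, by first | (delta Cfsg.Agent.ChevalleyStructure.RootVec.rt; rewrite [Cfsg.Agent.LsF.f072335_1.2, Cfsg.Agent.LsF.f072335_3.2, Cfsg.Agent.LsF.nsub_pat, Cfsg.Agent.LsF.isub_pat, Cfsg.Agent.LsF.icast_pat, Cfsg.Agent.LsF.decLt_eq, Cfsg.Agent.LsF.dAnd_eq, Cfsg.Agent.LsF.ite_eq]; exact rfl) | exact rfl⟩
private noncomputable def _root_.Cfsg.Agent.LsF.f072335_5 : {f // @Cfsg.Agent.Nodes.RGDChev.vec = f} := ⟨_, by first | (delta Cfsg.Agent.Nodes.RGDChev.vec; rewrite [Cfsg.Agent.LsF.f072335_4.2]; exact rfl) | exact rfl⟩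
theorem sep6 : ∀ (i : Fin 6) (s : Fin chevE6.nroots),
    (∀ j, ((3 : ℕ) : ℤ) ∣ pairing B6 j (vec chevE6 6 s) - B6 j i) → ∀ j, vec chevE6 6 s j = sr i j := by
  unfold pairing
  (refine of_decide_eq_true ?_; (try (delta Cfsg.Agent.Tits.Roots.sr Function.update Pi.single; rewrite [Cfsg.Agent.LsF.sumF_pat, Cfsg.Agent.LsF.f072335_0.2, Cfsg.Agent.LsF.f072335_5.2, Cfsg.Agent.LsF.iadd_pat, Cfsg.Agent.LsF.imul_pat, Cfsg.Agent.LsF.isub_pat, Cfsg.Agent.LsF.icast_pat, Cfsg.Agent.LsF.iACM_eq, Cfsg.Agent.LsF.instIDecEq_eq, Cfsg.Agent.LsF.dFinEq_eq, Cfsg.Agent.LsF.dForallFin_eq, Cfsg.Agent.LsF.dAllP_eq, Cfsg.Agent.LsF.idDvd_eq, Cfsg.Agent.LsF.dite_eq, Cfsg.Agent.LsF.decide_eq])); decide +kernel)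

private noncomputable def _root_.Cfsg.Agent.LsF.f072335_6 : {f // @Cfsg.Agent.TH.Ab.ZC.B7 = f} := ⟨_, by first | (delta Cfsg.Agent.TH.Ab.ZC.B7; rewrite [Cfsg.Agent.LsF.ineg_pat, Cfsg.Agent.LsF.vecCons_eq]; exact rfl) | exact rfl⟩
theorem sep7 : ∀ (i : Fin 7) (s : Fin chevE7.nroots),
    (∀ j, ((4 : ℕ) : ℤ) ∣ pairing B7 j (vec chevE7 7 s) - B7 j i) → ∀ j, vec chevE7 7 s j = sr i j := by
  unfold pairing
  (refine of_decide_eq_true ?_; (try (delta Cfsg.Agent.Tits.Roots.sr Function.update Pi.single; rewrite [Cfsg.Agent.LsF.sumF_pat, Cfsg.Agent.LsF.f072335_6.2, Cfsg.Agent.LsF.f072335_5.2, Cfsg.Agent.LsF.iadd_pat, Cfsg.Agent.LsF.imul_pat, Cfsg.Agent.LsF.isub_pat, Cfsg.Agent.LsF.icast_pat, Cfsg.Agent.LsF.iACM_eq, Cfsg.Agent.LsF.instIDecEq_eq, Cfsg.Agent.LsF.dFinEq_eq, Cfsg.Agent.LsF.dForallFin_eq, Cfsg.Agent.LsF.dAllP_eq, Cfsg.Agent.LsF.idDvd_eq, Cfsg.Agent.LsF.dite_eq, Cfsg.Agent.LsF.decide_eq])); decide +kernel)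

theorem tri6 : ∀ (i : Fin 6) (s : Fin chevE6.nroots), (3 : ℤ) ∣ 4 - 2 * pairing B6 i (vec chevE6 6 s) →
    (∀ j, vec chevE6 6 s j = sr i j) ∨ pairing B6 i (vec chevE6 6 s) = -1 := by
  unfold pairing
  (refine of_decide_eq_true ?_; (try (delta Cfsg.Agent.Tits.Roots.sr Function.update Pi.single; rewrite [Cfsg.Agent.LsF.sumF_pat, Cfsg.Agent.LsF.f072335_0.2, Cfsg.Agent.LsF.f072335_5.2, Cfsg.Agent.LsF.iadd_pat, Cfsg.Agent.LsF.imul_pat, Cfsg.Agent.LsF.isub_pat, Cfsg.Agent.LsF.ineg_pat, Cfsg.Agent.LsF.iACM_eq, Cfsg.Agent.LsF.instIDecEq_eq, Cfsg.Agent.LsF.dOr_eq, Cfsg.Agent.LsF.dFinEq_eq, Cfsg.Agent.LsF.dForallFin_eq, Cfsg.Agent.LsF.dAllP_eq, Cfsg.Agent.LsF.idDvd_eq, Cfsg.Agent.LsF.dite_eq, Cfsg.Agent.LsF.decide_eq])); decide +kernel)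

theorem tri7 : ∀ (i : Fin 7) (s : Fin chevE7.nroots), (∀ j, (2 : ℤ) ∣ pairing B7 j (vec chevE7 7 s) - B7 j i) →
    (∀ j, vec chevE7 7 s j = sr i j) ∨ ∀ j, vec chevE7 7 s j = -sr i j := by
  unfold pairing
  (refine of_decide_eq_true ?_; (try (delta Cfsg.Agent.Tits.Roots.sr Function.update Pi.single; rewrite [Cfsg.Agent.LsF.sumF_pat, Cfsg.Agent.LsF.f072335_6.2, Cfsg.Agent.LsF.f072335_5.2, Cfsg.Agent.LsF.iadd_pat, Cfsg.Agent.LsF.imul_pat, Cfsg.Agent.LsF.isub_pat, Cfsg.Agent.LsF.ineg_pat, Cfsg.Agent.LsF.iACM_eq, Cfsg.Agent.LsF.instIDecEq_eq, Cfsg.Agent.LsF.dOr_eq, Cfsg.Agent.LsF.dFinEq_eq, Cfsg.Agent.LsF.dForallFin_eq, Cfsg.Agent.LsF.dAllP_eq, Cfsg.Agent.LsF.idDvd_eq, Cfsg.Agent.LsF.dite_eq, Cfsg.Agent.LsF.decide_eq])); decide +kernel)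

theorem kd6 : KD chevE6 6 3 3 B6 ![4, 3, 5, 6, 4, 2] where
  pos := by norm_num
  form := by decide +kernel
  diag := by decide +kernel
  dvd := by unfold pairing; decide +kernel
  mark := by decide +kernel
  adj := by decide +kernel
  conn := by decide +kernel
  sep := sep6
  num := Or.inl ⟨rfl, rfl, tri6⟩

private noncomputable def _root_.Cfsg.Agent.LsF.f072335_7 : {f // @Cfsg.Lie.ChevalleyDatum.cartan = f} := ⟨_, by first | (delta Cfsg.Lie.ChevalleyDatum.cartan; rewrite [Cfsg.Agent.LsF.agetD_eq]; exact rfl) | exact rfl⟩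
private noncomputable def _root_.Cfsg.Agent.LsF.f072335_8 : {f // @Cfsg.Lie.ChevalleyDatum.simple = f} := ⟨_, by first | (delta Cfsg.Lie.ChevalleyDatum.simple; rewrite [Cfsg.Agent.LsF.agetD_eq]; exact rfl) | exact rfl⟩
private noncomputable def _root_.Cfsg.Agent.LsF.f072335_9 : {f // @Cfsg.Agent.ChevalleyStructure.CoxeterGeomTypes.cartanOf = f} := ⟨_, by first | (delta Cfsg.Agent.ChevalleyStructure.CoxeterGeomTypes.cartanOf; rewrite [Cfsg.Agent.LsF.f072335_7.2, Cfsg.Agent.LsF.f072335_8.2]; exact rfl) | exact rfl⟩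
theorem kd7 : KD chevE7 7 2 4 B7 ![2, 3, 4, 6, 5, 4, 3] where
  pos := by norm_num
  form := by (refine of_decide_eq_true ?_; (try (delta Cfsg.Agent.H92.NE.FormOK Cfsg.Agent.H92.NE.instDecidableFormOK; rewrite [Cfsg.Agent.LsF.f072335_6.2, Cfsg.Agent.LsF.f072335_9.2, Cfsg.Agent.LsF.imul_pat, Cfsg.Agent.LsF.instIDecEq_eq, Cfsg.Agent.LsF.dAnd_eq, Cfsg.Agent.LsF.dForallFin_eq, Cfsg.Agent.LsF.decide_eq])); decide +kernel)
  diag := by decide +kernel
  dvd := by unfold pairing; decide +kernel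
  mark := by decide +kernel
  adj := by decide +kernel
  conn := by (refine of_decide_eq_true ?_; (try (rewrite [Cfsg.Agent.LsF.piFintype_pat, Cfsg.Agent.LsF.f072335_6.2, Cfsg.Agent.LsF.dForall_eq, Cfsg.Agent.LsF.instIDecEq_eq, Cfsg.Agent.LsF.dOr_eq, Cfsg.Agent.LsF.dBoolEq_eq, Cfsg.Agent.LsF.dForallFin_eq, Cfsg.Agent.LsF.dAllP_eq, Cfsg.Agent.LsF.decide_eq])); decide +kernel)
  sep := sep7
  num := Or.inr ⟨rfl, rfl, tri7⟩

variable {D : ChevalleyDatum} {l : ℕ} {M : CoxeterMatrix (Fin l)} (hp : IsType D l M)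

/-- the action of the Weyl group -/
noncomputable abbrev wa (w : M.Group) : Module.End ℤ (Fin l → ℤ) := rep M.toCoxeterSystem hp.isCartan w

/-- roots -/
abbrev Rt (a : Fin l → ℤ) : Prop := IsRoot M.toCoxeterSystem hp.isCartan a

/-- `w + w⁻¹ = 2 - n` -/
def Nz (n : ℕ) (w : M.Group) : Prop := ∀ a, wa hp w a + wa hp w⁻¹ a = ((2 : ℤ) - n) • a

/-- the cocycle -/
noncomputable def dv (r : ℕ) (v : Fin l → ℤ) (w : M.Group) : Fin l → ℤ := fun i => (wa hp w v i - v i) / r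

theorem dvd_all {m : ℤ} (f : (Fin l → ℤ) →+ ℤ) (h : ∀ j, m ∣ f (sr j)) (y : Fin l → ℤ) : m ∣ f y := by
  rw [eq_psi f y]
  exact Finset.dvd_sum fun i _ => Dvd.dvd.mul_left (h i) _

variable {hp} {r n : ℕ} {Bm : Mat l} {v : Fin l → ℤ}

theorem Nz.inv {w : M.Group} (h : Nz hp n w) : Nz hp n w⁻¹ := fun a => by rw [inv_inv, add_comm, h]

namespace KD

variable (K : KD D l r n Bm v)
include K

theorem r_pos : 0 < r := by rcases K.num with ⟨h, -⟩ | ⟨h, -⟩ <;> omega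

theorem n_ge : 3 ≤ n := by rcases K.num with ⟨-, h, -⟩ | ⟨-, h, -⟩ <;> omega

theorem prime : r.Prime := by
  rcases K.num with ⟨h, -⟩ | ⟨h, -⟩ <;> rw [h]
  exacts [Nat.prime_three, Nat.prime_two]

theorem n_pow : ∃ j, n = r ^ j := by
  rcases K.num with ⟨h, h', -⟩ | ⟨h, h', -⟩ <;> rw [h, h']
  exacts [⟨1, rfl⟩, ⟨2, rfl⟩]

theorem symm (x y : Fin l → ℤ) : bl Bm x y = bl Bm y x := bl_comm K.form.1 y x

theorem pair (i : Fin l) (x : Fin l → ℤ) : pairing (cartanOf D l) i x = bl Bm x (sr i) := by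
  rw [bl_sr]
  refine Finset.sum_congr rfl fun j _ => ?_
  have h := K.form.2 i j
  rw [K.diag] at h
  rw [show cartanOf D l i j = Bm i j by omega]

theorem inv (w : M.Group) (x y : Fin l → ℤ) : bl Bm (wa hp w x) (wa hp w y) = bl Bm x y := bl_rep hp K.form w y x

theorem adjt (w : M.Group) (x y : Fin l → ℤ) : bl Bm (wa hp w x) y = bl Bm x (wa hp w⁻¹ y) := by
  rw [← K.inv (hp := hp) w x, rep_apply_inv]

theorem add_left (x x' y : Fin l → ℤ) : bl Bm (x + x') y = bl Bm x y + bl Bm x' y := bl_add_left K.form.1 y x x'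

theorem sub_left (x x' y : Fin l → ℤ) : bl Bm (x - x') y = bl Bm x y - bl Bm x' y := bl_sub_left K.form.1 y x x'

theorem smul_left (c : ℤ) (x y : Fin l → ℤ) : bl Bm (c • x) y = c * bl Bm x y := by
  rw [K.symm, map_zsmul, K.symm, smul_eq_mul]

theorem root {a : Fin l → ℤ} (ha : Rt hp a) : bl Bm a a = 2 := bl_root hp K.form K.diag ha

theorem dvd_v (y : Fin l → ℤ) : (r : ℤ) ∣ bl Bm v y := dvd_all _ (fun j => by rw [bl_sr]; exact K.dvd j) y

theorem exists_neg {a : Fin l → ℤ} (ha : Rt hp a) : ∃ β, bl Bm β a = -1 := by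
  obtain ⟨w, i, rfl⟩ := ha
  obtain ⟨j, hj⟩ := K.adj i
  exact ⟨wa hp w (sr j), by rw [K.inv, bl_sr_sr, hj]⟩

/-- roots are different modulo `n P` -/
theorem sep' {a b : Fin l → ℤ} (ha : Rt hp a) (hb : Rt hp b) (h : ∀ y, (n : ℤ) ∣ bl Bm (b - a) y) : b = a := by
  obtain ⟨w, i, rfl⟩ := ha
  obtain ⟨s, hs, e⟩ := (isRoot_iff hp M.toCoxeterSystem _).1 (hb.act w⁻¹)
  have h1 := K.sep i ⟨s, hs⟩ fun j => by
    have h2 := h (wa hp w (sr j))
    rw [K.sub_left, K.inv, bl_sr_sr, ← K.inv (hp := hp) w⁻¹, rep_inv_apply, ← e, bl_sr] at h2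
    exact h2
  have h2 : vec D l s = sr i := funext h1
  rw [← h2, e, rep_apply_inv]

theorem quad_sr {w : M.Group} (h1 : ∀ β y, (n : ℤ) ∣ bl Bm (β + β - wa hp w β - wa hp w⁻¹ β) y)
    (h2 : ∀ β y, (n : ℤ) ∣ r * bl Bm (wa hp w β - β) y) (i : Fin l) :
    wa hp w (sr i) = sr i ∨ wa hp w (sr i) + wa hp w⁻¹ (sr i) = ((2 : ℤ) - n) • sr i := by
  have ha : Rt hp (sr i) := isRoot_sr _ _ i
  obtain ⟨s, hs, e⟩ := (isRoot_iff hp M.toCoxeterSystem _).1 (ha.act w)
  rcases K.num with ⟨rfl, rfl, h3⟩ | ⟨rfl, rfl, h3⟩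
  · have h4 : bl Bm (wa hp w⁻¹ (sr i)) (sr i) = bl Bm (wa hp w (sr i)) (sr i) := by rw [K.adjt, inv_inv, K.symm]
    have h5 := h1 (sr i) (sr i)
    rw [K.sub_left, K.sub_left, K.add_left, K.root ha, h4] at h5
    have h6 : pairing Bm i (vec D l s) = bl Bm (wa hp w (sr i)) (sr i) := by rw [e, bl_sr]; rfl
    rcases h3 i ⟨s, hs⟩ (by
      show (3 : ℤ) ∣ 4 - 2 * pairing Bm i (vec D l s)
      rw [h6]
      push_cast at h5
      omega) with h7 | h7
    · exact Or.inl (e.symm.trans (funext h7))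
    · right
      have h8 : bl Bm (wa hp w (sr i)) (sr i) = -1 := h6.symm.trans h7
      have h9 : Rt hp (-(wa hp w (sr i) + sr i)) := by
        have h10 := ((ha.act w).act (M.toCoxeterSystem.simple i)).neg
        rwa [rep_simple_eq, K.pair, h8, neg_smul, one_smul, sub_neg_eq_add] at h10
      have h10 := K.sep' (b := wa hp w⁻¹ (sr i)) h9 (ha.act w⁻¹) fun y => by
        have h11 := h1 (sr i) y
        rw [K.sub_left, K.sub_left, K.add_left] at h11
        rw [sub_neg_eq_add, K.add_left, K.add_left]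
        push_cast at h11 ⊢
        omega
      rw [h10]
      norm_num
  · rcases h3 i ⟨s, hs⟩ (fun j => by
      have h5 := h2 (sr i) (sr j)
      rw [K.sub_left, bl_sr_sr, ← e, bl_sr] at h5
      change _ ∣ _ * (pairing Bm j (vec D l s) - Bm j i) at h5
      show (2 : ℤ) ∣ pairing Bm j (vec D l s) - Bm j i
      push_cast at h5
      omega) with h7 | h7
    · exact Or.inl (e.symm.trans (funext h7))
    · right
      have h8 : wa hp w (sr i) = -sr i := e.symm.trans (funext h7)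
      have h9 : wa hp w⁻¹ (sr i) = -sr i := by
        have h10 := congrArg (wa hp w⁻¹) h8
        rw [rep_inv_apply, map_neg] at h10
        exact (neg_eq_iff_eq_neg.1 h10.symm)
      rw [h8, h9]
      ext j
      simp only [Pi.add_apply, Pi.neg_apply, Pi.smul_apply, smul_eq_mul]
      push_cast
      ring

/-- **The elements acting quadratically.** -/
theorem quad {w : M.Group} (h1 : ∀ β y, (n : ℤ) ∣ bl Bm (β + β - wa hp w β - wa hp w⁻¹ β) y)
    (h2 : ∀ β y, (n : ℤ) ∣ r * bl Bm (wa hp w β - β) y) : w = 1 ∨ Nz hp n w := by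
  classical
  have key := K.quad_sr h1 h2
  rcases K.conn (fun i => decide (wa hp w (sr i) = sr i)) (fun i j hi hj => by
    have h3 : wa hp w (sr i) = sr i := of_decide_eq_true hi
    have h4 := (key j).resolve_left (of_decide_eq_false hj)
    have h5 : wa hp w⁻¹ (sr i) = sr i := by
      conv_lhs => rw [← h3]
      exact rep_inv_apply _ _ _ _
    have h6 : bl Bm _ (sr i) = bl Bm _ (sr i) := congrArg (fun x => bl Bm x (sr i)) h4
    rw [K.add_left, K.adjt, K.adjt, inv_inv, h3, h5, K.smul_left, bl_sr_sr] at h6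
    have h7 : (n : ℤ) * Bm i j = 0 := by linear_combination h6
    have h8 := K.n_ge
    exact (mul_eq_zero.1 h7).resolve_left (by omega)) with h3 | h3
  · left
    refine eq_one_of_nonneg M.toCoxeterSystem hp.isCartan w fun i => ?_
    have h4 : wa hp w (sr i) = sr i := of_decide_eq_true (h3 i)
    have h5 : (0 : Fin l → ℤ) ≤ sr i := sr_nonneg i
    rw [← h4] at h5
    exact h5
  · right
    intro a
    have h4 : ∀ i, wa hp w (sr i) + wa hp w⁻¹ (sr i) = ((2 : ℤ) - n) • sr i := fun i =>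
      (key i).resolve_left (of_decide_eq_false (h3 i))
    rw [IsMC.eq_sum_sr a, map_sum, map_sum, ← Finset.sum_add_distrib, Finset.smul_sum]
    refine Finset.sum_congr rfl fun i _ => ?_
    rw [map_smul, map_smul, ← smul_add, h4, smul_comm]

theorem nz_ne {z : M.Group} (hz : Nz hp n z) {a : Fin l → ℤ} (ha : Rt hp a) : wa hp z a ≠ a := by
  intro h
  have h5 : wa hp z⁻¹ a = a := by
    conv_lhs => rw [← h]
    exact rep_inv_apply _ _ _ _
  have h6 : bl Bm _ a = bl Bm _ a := congrArg (fun x => bl Bm x a) (hz a)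
  rw [h, h5, K.add_left, K.smul_left, K.root ha] at h6
  have h8 := K.n_ge
  omega

theorem nz_form {z : M.Group} (hz : Nz hp n z) (a b : Fin l → ℤ) :
    bl Bm (wa hp z a - a) (wa hp z b - b) = n * bl Bm a b := by
  have h6 : bl Bm _ b = bl Bm _ b := congrArg (fun x => bl Bm x b) (hz a)
  rw [K.add_left, K.smul_left, K.adjt (hp := hp) z⁻¹, inv_inv] at h6
  rw [K.sub_left, map_sub, map_sub, K.inv]
  linear_combination -h6

/-- **The group is cyclic.** -/
theorem cyc {z w : M.Group} (hz : Nz hp n z) (hc : z * w = w * z) (h0 : w = 1 ∨ Nz hp n w)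
    (h1 : z * w = 1 ∨ Nz hp n (z * w)) (h2 : z * w⁻¹ = 1 ∨ Nz hp n (z * w⁻¹)) : w = 1 ∨ w = z ∨ w = z⁻¹ := by
  rcases h0 with h0 | h0
  · exact Or.inl h0
  rcases h1 with h1 | h1
  · exact Or.inr (Or.inr (eq_inv_of_mul_eq_one_right h1))
  rcases h2 with h2 | h2
  · exact Or.inr (Or.inl (mul_inv_eq_one.1 h2).symm)
  exfalso
  have hC : Commute z w := hc
  set a : Fin l → ℤ := sr ⟨0, K.pos⟩
  have h3 := hz (wa hp w a + wa hp w⁻¹ a)
  have h4 := h1 a
  have h5 := h2 a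
  rw [mul_inv_rev, ← hC.inv_inv.eq, rep_mul_apply, rep_mul_apply] at h4
  rw [mul_inv_rev, inv_inv, ← hC.inv_left.eq, rep_mul_apply, rep_mul_apply] at h5
  rw [map_add, map_add] at h3
  have h6 : ((2 : ℤ) - n) • (wa hp w a + wa hp w⁻¹ a) = ((2 : ℤ) - n) • a + ((2 : ℤ) - n) • a := by
    rw [← h3]
    nth_rewrite 1 [← h4]
    rw [← h5]
    abel
  rw [h0 a] at h6
  have h7 := congrFun h6 ⟨0, K.pos⟩
  simp only [Pi.add_apply, Pi.smul_apply, smul_eq_mul, a, sr_self] at h7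
  have h8 := K.n_ge
  have h9 : (n : ℤ) * ((n : ℤ) - 2) = 0 := by linear_combination h7
  rcases mul_eq_zero.1 h9 with h | h <;> omega

/-! ### the cocycle -/

theorem dv_spec (w : M.Group) : (r : ℤ) • dv hp r v w = wa hp w v - v := by
  have key : ∃ d : Fin l → ℤ, wa hp w v - v = (r : ℤ) • d := by
    induction w using M.toCoxeterSystem.simple_induction with
    | simple i =>
      obtain ⟨m, hm⟩ := K.dvd_v (sr i)
      refine ⟨(-m) • sr i, ?_⟩
      rw [rep_simple_eq, K.pair, hm, smul_smul]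
      simp only [_root_.zsmul_eq_mul, _root_.Int.cast_mul, _root_.Int.cast_natCast, _root_.sub_sub_cancel_left, _root_.mul_neg, _root_.neg_smul]
    | one => exact ⟨0, by simp only [_root_.map_one, _root_.Module.End.one_apply, _root_.sub_self, _root_.smul_zero]⟩
    | mul w w' h h' =>
      obtain ⟨d, hd⟩ := h
      obtain ⟨d', hd'⟩ := h'
      refine ⟨wa hp w d' + d, ?_⟩
      rw [smul_add, ← map_smul, ← hd, ← hd', map_sub, rep_mul_apply]
      abel
  obtain ⟨d, hd⟩ := key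
  have h0 : (r : ℤ) ≠ 0 := by have := K.r_pos; omega
  ext i
  have h1 := congrFun hd i
  simp only [Pi.sub_apply, Pi.smul_apply, smul_eq_mul] at h1 ⊢
  rw [dv, h1, Int.mul_ediv_cancel_left _ h0]

theorem cancel {x y : Fin l → ℤ} (h : (r : ℤ) • x = (r : ℤ) • y) : x = y :=
  smul_right_injective _ (by have := K.r_pos; omega : (r : ℤ) ≠ 0) h

theorem dv_mul (w w' : M.Group) : dv hp r v (w * w') = wa hp w (dv hp r v w') + dv hp r v w := by
  refine K.cancel ?_
  rw [smul_add, ← map_smul, K.dv_spec, K.dv_spec, K.dv_spec, map_sub, rep_mul_apply]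
  abel

theorem dv_one : dv hp r v 1 = 0 := K.cancel (by rw [K.dv_spec]; simp only [_root_.map_one, _root_.Module.End.one_apply, _root_.sub_self, _root_.smul_zero])

theorem dv_conj (u w : M.Group) :
    dv hp r v (u * w * u⁻¹) = wa hp u (wa hp w (dv hp r v u⁻¹) - dv hp r v u⁻¹ + dv hp r v w) := by
  have h1 := K.dv_mul (hp := hp) u u⁻¹
  rw [mul_inv_cancel, K.dv_one] at h1
  rw [K.dv_mul, K.dv_mul, rep_mul_apply, map_add, map_sub, eq_neg_of_add_eq_zero_right h1.symm]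
  abel

theorem dv_rfl (w : M.Group) (i : Fin l) :
    ∃ c : ℤ, dv hp r v (w * M.toCoxeterSystem.simple i * w⁻¹) = c • wa hp w (sr i) := by
  obtain ⟨m, hm⟩ := K.dvd_v (wa hp w (sr i))
  refine ⟨-m, K.cancel ?_⟩
  have h1 : bl Bm (wa hp w⁻¹ v) (sr i) = r * m := by rw [K.adjt, inv_inv, hm]
  rw [K.dv_spec, rep_mul_apply, rep_mul_apply, rep_simple_eq, K.pair, h1, map_sub, rep_apply_inv, map_smul, smul_smul]
  simp only [_root_.zsmul_eq_mul, _root_.Int.cast_mul, _root_.Int.cast_natCast, _root_.sub_sub_cancel_left, _root_.mul_neg, _root_.neg_smul]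

theorem dv_nz {z : M.Group} (hz : Nz hp n z) (β : Fin l → ℤ) : (n : ℤ) ∣ bl Bm (wa hp z β - β) (dv hp r v z) := by
  obtain ⟨m, hm⟩ := K.dvd_v β
  have h1 := K.nz_form hz β v
  rw [← K.dv_spec (hp := hp) z, map_zsmul, K.symm β, hm, smul_eq_mul] at h1
  have h0 : (r : ℤ) ≠ 0 := by have := K.r_pos; omega
  exact ⟨m, mul_left_cancel₀ h0 (by linear_combination h1)⟩

/-- **The cocycle on the automorphisms of the extended diagram.** -/
theorem dv_kac {c : Fin l → ℕ} {c0 : ℕ} (C : Kac D l r c c0) {u : M.Group} {π : Equiv.Perm (Option (Fin l))}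
    (h1 : ∀ i, wa hp u (al D l i) = al D l (π i)) (h2 : ∀ i, ct c c0 (π i) = ct c c0 i) (h3 : π none ≠ none) :
    ¬ (r : ℤ) ∣ bb c (dv hp r v u) := by
  classical
  have h4 : π.symm none ≠ none := fun h => h3 (by rw [← h, Equiv.apply_symm_apply]; exact h.symm)
  obtain ⟨i₀, hi⟩ := Option.ne_none_iff_exists'.1 h4
  have h5 : π (some i₀) = none := by rw [← hi, Equiv.apply_symm_apply]
  have h6 : hr D l i₀ = 1 := by
    have h7 := mk_perm hp h1 (some i₀)
    rw [h5] at h7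
    exact h7.symm
  have hal : ∀ j, bb c (al D l j) = ct c c0 j - if j = none then (r : ℤ) else 0 := by
    rintro (_ | j)
    · show bb c (-hr D l) = (c0 : ℤ) - if (none : Option (Fin l)) = none then (r : ℤ) else 0
      rw [map_neg, bb_hr C, if_pos rfl]
      ring
    · show psi _ (sr j) = (c j : ℤ) - if some j = none then (r : ℤ) else 0
      rw [psi_sr, if_neg (by simp), sub_zero]
  have h7 : ∀ i, bb c (wa hp u (sr i)) = bb c (sr i) - if i = i₀ then (r : ℤ) else 0 := fun i => by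
    have h8 : wa hp u (sr i) = al D l (π (some i)) := h1 (some i)
    have h9 : bb c (sr i) = ct c c0 (some i) := psi_sr _ i
    rw [h8, hal, h2, h9]
    congr 1
    refine if_congr ⟨fun h => ?_, fun h => by rw [h, h5]⟩ rfl rfl
    exact Option.some_injective _ (π.injective (h.trans h5.symm))
  have h8 : bb c (wa hp u v) - bb c v = -(r * v i₀) := by
    have e1 := eq_psi ((bb c).comp (wa hp u).toAddMonoidHom) v
    change bb c (wa hp u v) = ∑ i, v i * bb c (wa hp u (sr i)) at e1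
    rw [e1, eq_psi (bb c) v, ← Finset.sum_sub_distrib, Finset.sum_eq_single i₀]
    · rw [h7, if_pos rfl]
      ring
    · intro i _ hi
      rw [h7, if_neg hi]
      ring
    · intro h
      exact absurd (Finset.mem_univ _) h
  rw [← map_sub, ← K.dv_spec, map_zsmul, smul_eq_mul] at h8
  have h0 : (r : ℤ) ≠ 0 := by have := K.r_pos; omega
  have h9 : bb c (dv hp r v u) = -v i₀ := mul_left_cancel₀ h0 (by linear_combination h8)
  rw [h9, dvd_neg]
  exact K.mark i₀ h6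

end KD

end Cfsg.Agent.TH.Ab.ZC

private theorem dce_a55c344429d6 : _root_.True := by
  try have : _root_.True := by simp only [_root_.Cfsg.Agent.TH.Ab.ZC.dv.eq_1]
  try have : _root_.True := by simp only [_root_.Cfsg.Agent.TH.Ab.ZC.dv.congr_simp]
  try have : _root_.True := by simp only [_root_.Cfsg.Agent.TH.Ab.ZC.wa.congr_simp]
  exact _root_.True.intro
end

-- part: TH/Ex/Ab/ZCDel
section
prune_inst 0x1504040002202000018050612003806a200000000630c00bc20000400829f226d062741052038010800a8582031006002000050425800000e0004000004050100a81206a148a00040009e801086400000000000000000000000000000041000200000002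
set_option linter.all false
open scoped Cfsg.Agent.FastGrp

/-!
# S3541, box ZC: the component group of the centraliser of an element of order `r` (helper97)

For `x` in the torus, `w ↦ cX x (dv w)` is a homomorphism on the stabiliser of `x` in `W`.

* `del` : a representative of an element of the kernel lies in the connected centraliser;
* `rp_sigma` : frame automorphisms acting as `± u` on the lattice permute the cosets of the torus as `u`;
* `tp_of_fix` : `E₆`, `r = 3`, `σ` acts non-trivially on the fundamental group: commuting fixed elements of order 3 are toral.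
-/

set_option autoImplicit false
set_option linter.unusedSectionVars false

namespace Cfsg.Agent.TH.Ab.ZC

open CoxeterSystem Cfsg Cfsg.Lie Cfsg.Lie.ChevalleyDatum
open Cfsg.Agent.ChevalleyStructure Cfsg.Agent.ChevalleyStructure.Elts Cfsg.Agent.ChevalleyStructure.CoxeterGeom
  Cfsg.Agent.ChevalleyStructure.CoxeterGeomTypes
open Cfsg.Agent.Tits.Roots Cfsg.Agent.Tits.Core Cfsg.Agent.Nodes Cfsg.Agent.Nodes.Reps Cfsg.Agent.Nodes.BNOf
  Cfsg.Agent.Nodes.RGDChev Cfsg.Agent.Nodes.Bruhat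
open Cfsg.Agent.KFacts.RgdField Cfsg.Agent.KFacts.RgdChevCoord
open Cfsg.Agent.BpExc Cfsg.Agent.BpExc.TorCent Cfsg.Agent.BpExc.TorChev Cfsg.Agent.BpExc.Tow
  Cfsg.Agent.BpExc.TowChev Cfsg.Agent.BpExc.Fr Cfsg.Agent.BpExc.LangFr
open Cfsg.Agent.H469.Exc Cfsg.Agent.H795.SetCent Cfsg.Agent.H129.TorusChar Cfsg.Agent.H129.WData Cfsg.Agent.DS.Ex
open Cfsg.Agent.H185.EE Cfsg.Agent.H931.KC Cfsg.Agent.DS.Nt Cfsg.Agent.DS.Ex.Tor

variable {D : ChevalleyDatum} {l : ℕ} {M : CoxeterMatrix (Fin l)} {hp : IsType D l M} {p : ℕ} [Fact p.Prime]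
  {r n : ℕ} {Bm : Mat l} {v : Fin l → ℤ}

theorem cX_conj (K : KD D l r n Bm v) {x : YY D p} (hx : x ∈ TT D (KK p)) (u : M.Group) {w : M.Group}
    (hw : ∀ a, cX hp x (wa hp (u * w * u⁻¹) a) = cX hp x a) :
    cX hp x (dv hp r v (u * w * u⁻¹)) = cX hp x (wa hp u (dv hp r v w)) := by
  have h := isMC_cX hp hx
  have h1 := hw (wa hp u (dv hp r v u⁻¹))
  rw [rep_mul_apply, rep_mul_apply, rep_inv_apply] at h1
  rw [K.dv_conj, map_add, map_sub, h.add, h.sub, h1, div_self (h.ne_zero _), one_mul]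

theorem del_PP [Finite M.Group] (K : KD D l r n Bm v) (hrp : r ≠ p) {x : YY D p} (hx : x ∈ TT D (KK p)) (hxr : x ^ r = 1)
    {y : M.Group} (hy : y ∈ PP M.toCoxeterSystem hp.isCartan (ch hp) x) (hδ : cX hp x (dv hp r v y) = 1) : y = 1 := by
  by_contra hy1
  obtain ⟨ζ, hζ⟩ := exists_prim (p := p) K.prime hrp
  obtain ⟨w, u, c, c0, π, C, h1, hu, h2, h3, h4⟩ := pp_diag K.r_pos hζ hx hxr hy hy1
  have e : y = w * u * w⁻¹ := by rw [hu]; group
  have h5 := cX_conj (hp := hp) K hx w (w := u) fun a => by rw [← e]; exact cX_PP hp hx hy a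
  rw [← e, hδ, h1, eq_comm, hζ.zpow_eq_one_iff_dvd] at h5
  exact K.dv_kac C h2 h3 h4 h5

theorem del_mul (K : KD D l r n Bm v) {x : YY D p} (hx : x ∈ TT D (KK p)) {w : M.Group}
    (hw : ∀ a, cX hp x (wa hp w a) = cX hp x a) (w' : M.Group) :
    cX hp x (dv hp r v (w * w')) = cX hp x (dv hp r v w) * cX hp x (dv hp r v w') := by
  rw [K.dv_mul, (isMC_cX hp hx).add, hw, mul_comm]

theorem del_one (K : KD D l r n Bm v) {x : YY D p} (hx : x ∈ TT D (KK p)) : cX hp x (dv hp r v 1) = 1 := by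
  rw [K.dv_one, (isMC_cX hp hx).zero]

/-- **The kernel of the homomorphism is represented in the connected centraliser.** -/
theorem del (K : KD D l r n Bm v) (hrp : r ≠ p) {x : YY D p} (hx : x ∈ TT D (KK p)) (hxr : x ^ r = 1) {w : M.Group}
    {k : YY D p} (hk : RP hp p w k) (hc : k * x = x * k) (hδ : cX hp x (dv hp r v w) = 1) : k ∈ DZ hp p {x} := by
  have := finW hp
  have hZ : ({x} : Set (YY D p)) ⊆ TT D (KK p) := Set.singleton_subset_iff.2 hx
  let V : Subgroup M.Group :=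
    { carrier := {u | (∃ m ∈ Mz hp p {x}, RP hp p u m) ∧ cX hp x (dv hp r v u) = 1}
      one_mem' := ⟨⟨1, one_mem _, RP.of_mem (one_mem _)⟩, del_one K hx⟩
      mul_mem' := by
        rintro a b ⟨⟨m, hm, h1⟩, h2⟩ ⟨⟨m', hm', h3⟩, h4⟩
        refine ⟨⟨m * m', mul_mem hm hm', h1.mul h3⟩, ?_⟩
        rw [del_mul K hx (h1.cX_of_comm hx (Mz_comm hZ hm rfl)), h2, h4, one_mul]
      inv_mem' := by
        rintro a ⟨⟨m, hm, h1⟩, h2⟩
        refine ⟨⟨m⁻¹, inv_mem hm, h1.inv⟩, ?_⟩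
        have h3 := del_mul K hx (h1.cX_of_comm hx (Mz_comm hZ hm rfl)) a⁻¹
        rw [mul_inv_cancel, del_one K hx, h2, one_mul] at h3
        exact h3.symm }
  obtain ⟨u, ⟨⟨m, hm, h1⟩, h2⟩, h3⟩ := TorCent.exists_adjust (cs := M.toCoxeterSystem) (h := hp.isCartan)
    (Sx M.toCoxeterSystem hp.isCartan (ch hp) x) V (fun a ha => by
      obtain ⟨w, i, e, m, hm, h1⟩ := exists_rfl_MMZ (tw hp p) (coW hp p) (chW hp p) (sub_TL hZ) (a := a)
        ⟨ha.1, fun t ht => by rw [ht]; exact ha.2⟩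
      rw [XLe hp p] at hm
      refine ⟨w, i, e, ⟨m, hm, h1⟩, ?_⟩
      obtain ⟨c, hc⟩ := K.dv_rfl (hp := hp) w i
      show cX hp x (dv hp r v (w * M.toCoxeterSystem.simple i * w⁻¹)) = 1
      rw [hc, (isMC_cX hp hx).zsmul, ← e, cX_root hp M.toCoxeterSystem hx ha.1, ha.2, one_zpow]) w
  have h4 := hk.mul h1
  have h5 : k * m * x = x * (k * m) := by rw [mul_assoc, Mz_comm hZ hm rfl, ← mul_assoc, hc, mul_assoc]
  have h6 : w * u = 1 := del_PP K hrp hx hxr (mem_PP.2 ⟨fun a ha => by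
      rw [← cX_root hp M.toCoxeterSystem hx ha, ← cX_root hp M.toCoxeterSystem hx (ha.act _), h4.cX_of_comm hx h5], h3⟩)
    (by rw [del_mul K hx (hk.cX_of_comm hx hc), hδ, h2, one_mul])
  rw [h6] at h4
  have e : k = k * m * m⁻¹ := by group
  rw [e]
  exact mul_mem (T_le_DZ h4.mem_T) (inv_mem (Mz_le_DZ hm))

/-- frame automorphisms and representatives -/
theorem rp_sigma {σ : MulAut (YY D p)} {g : (Fin l → ℤ) ≃+ (Fin l → ℤ)} (F : FR hp p σ g) {ε : ℤˣ} {u : M.Group}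
    (hg : ∀ a, g a = (ε : ℤ) • wa hp u a) {w : M.Group} {k : YY D p} (hk : RP hp p w k) :
    RP hp p (u * w * u⁻¹) (σ k) := by
  have h1 := (F.mul hk.fr).mul F.inv
  rw [conj_conj σ k] at h1
  obtain ⟨w', h2, h3⟩ := inner h1
  have h4 : w' = u * w * u⁻¹ := by
    apply rep_injective M.toCoxeterSystem hp.isCartan
    refine LinearMap.ext fun a => ?_
    obtain ⟨b, rfl⟩ := g.surjective a
    have h5 := congrArg (fun f : (Fin l → ℤ) ≃+ (Fin l → ℤ) => f (g b)) h3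
    change g (wa hp w (g.symm (g b))) = wa hp w' (g b) at h5
    rw [g.symm_apply_apply] at h5
    change wa hp w' (g b) = _
    rw [← h5, hg, hg, map_smul, rep_mul_apply, rep_mul_apply, rep_inv_apply]
  rwa [← h4]

/-- **`σ` acts non-trivially on the fundamental group.** -/
theorem tp_of_fix (K : KD D l 3 n Bm v) (hrp : 3 ≠ p) {e : ℕ} {σ : MulAut (YY D p)} {g : (Fin l → ℤ) ≃+ (Fin l → ℤ)}
    (hσ : IsFrob p e σ) (F : FR hp p σ g) {ε : ℤˣ} {u : M.Group} (hg : ∀ a, g a = (ε : ℤ) • wa hp u a)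
    (hq : ¬ (3 : ℤ) ∣ ε * (p ^ e : ℕ) - 1) {x y : YY D p} (hx : σ x = x) (hy : σ y = y) (hx3 : x ^ 3 = 1) (hy3 : y ^ 3 = 1)
    (hc : y * x = x * y) : Tp p y x := by
  have := finW hp
  obtain ⟨z, hz⟩ := exists_conj_T hp Nat.prime_three hrp (n := 1) (x := x) (by rw [pow_one, hx3])
  set t := z * x * z⁻¹ with ht
  set s := z * y * z⁻¹ with hs
  have hZ : ({t} : Set (YY D p)) ⊆ TT D (KK p) := Set.singleton_subset_iff.2 hz
  have ht3 : t ^ 3 = 1 := by rw [ht, conj_pow, hx3, mul_one, mul_inv_cancel]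
  have hs3 : s ^ 3 = 1 := by rw [hs, conj_pow, hy3, mul_one, mul_inv_cancel]
  have hst : s * t = t * s := conj_comm hc
  refine Tp.of_conj (c := z) (Tp.symm (tp_of_mem_DZ (hp := hp) Nat.prime_three hrp hz ⟨1, by rw [pow_one, ht3]⟩ ?_
    ⟨1, by rw [pow_one, hs3]⟩))
  change s ∈ DZ hp p {t}
  by_contra hne
  -- the frame fixing `t`
  have e1 : ∀ a : YY D p, σ a = a → z * (σ z)⁻¹ * σ (z * a * z⁻¹) = z * a * z⁻¹ * (z * (σ z)⁻¹) := fun a ha => by
    rw [map_mul, map_mul, map_inv, ha]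
    group
  obtain ⟨m, hm, w₀, k₀, hk₀, h1, h2⟩ := form₂ hp (ι := Unit) (s := fun _ => σ t) (t := fun _ => t)
    (fun _ => (F.tor t).2 hz) (fun _ => hz) (c := z * (σ z)⁻¹) (fun _ => e1 x hx)
  rw [Set.range_const] at hm
  have F' : FR hp p (MulAut.conj k₀ * σ) _ := hk₀.fr.mul F
  have hσ' : IsFrob p e (MulAut.conj k₀ * σ) := hσ.conj_mul k₀
  set τ := MulAut.conj k₀ * σ with hτ
  have hτt : τ t = t := by
    show k₀ * σ t * k₀⁻¹ = t
    rw [h1 (), mul_inv_cancel_right]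
  have hτs : m * τ s * m⁻¹ = s := by
    show m * (k₀ * σ s * k₀⁻¹) * m⁻¹ = s
    calc m * (k₀ * σ s * k₀⁻¹) * m⁻¹ = m * k₀ * σ s * (m * k₀)⁻¹ := by group
      _ = s := by rw [← h2, e1 y hy, mul_inv_cancel_right]
  have hg' : ∀ a, (g.trans (repAut M.toCoxeterSystem hp.isCartan w₀)) a = (ε : ℤ) • wa hp (w₀ * u) a := fun a => by
    show wa hp w₀ (g a) = _
    rw [hg, map_smul, rep_mul_apply]
  set u' := w₀ * u
  -- the form of `s`
  obtain ⟨m₁, hm₁, w, -, k, hk, h3, h4⟩ := form hp (Set.finite_singleton t) hZ (c := s) (fun a ha => by rw [ha, hst])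
  have h5 : k * t = t * k := h3 t rfl
  have hkD : k ∉ DZ hp p {t} := fun h => hne (by rw [h4]; exact mul_mem (Mz_le_DZ hm₁) h)
  have hk' := rp_sigma F' hg' hk
  have h6 : τ k * t = t * τ k := by
    have h7 := congrArg τ h5
    rwa [map_mul τ k t, map_mul τ t k, hτt] at h7
  have hτm : τ m₁ ∈ Mz hp p {t} := (F'.mem_Sup (S := Ps hp p {t}) (S' := Ps hp p {t}) (fun a ha => ha.1) (fun a => by
    rw [mem_Ps hZ, mem_Ps hZ, F'.root]
    refine and_congr_right fun _ => forall_congr' fun b => forall_congr' fun hb => ?_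
    have h7 := cX_sigma hp M.toCoxeterSystem hσ' F' hz a
    rw [hτt] at h7
    rw [hb, h7]
    refine ⟨fun h => ?_, fun h => by rw [h, one_pow]⟩
    have h8 : (cX hp t a - 1) ^ p ^ e = 0 := by rw [sub_pow_char_pow, h, one_pow, sub_self]
    exact sub_eq_zero.1 (pow_eq_zero_iff (pow_ne_zero e (Fact.out : p.Prime).ne_zero) |>.1 h8)) m₁).2 hm₁
  have h7 : k * (τ k)⁻¹ ∈ DZ hp p {t} := by
    have e2 : k * (τ k)⁻¹ = m₁⁻¹ * m * τ m₁ * (τ k * m⁻¹ * (τ k)⁻¹) := by
      have e3 : k = m₁⁻¹ * (m * (τ m₁ * τ k) * m⁻¹) := by rw [← map_mul, ← h4, hτs, h4]; group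
      nth_rewrite 1 [e3]
      group
    rw [e2]
    exact Mz_le_DZ (mul_mem (mul_mem (mul_mem (inv_mem hm₁) hm) hτm)
      (hk'.conj_Mz hZ (fun a ha => by rw [ha, h6]) (inv_mem hm)))
  -- the values
  have hX := isMC_cX hp hz
  set δ := cX hp t (dv hp 3 v w) with hδ
  have hδ0 : δ ≠ 0 := hX.ne_zero _
  have hδ3 : δ ^ 3 = 1 := by rw [hδ, ← cX_pow hp hz, ht3, cX_one]
  have hδ1 : δ ≠ 1 := fun h => hkD (del K hrp hz ht3 hk h5 h)
  have h8 : cX hp t (dv hp 3 v (u' * w * u'⁻¹)) = δ⁻¹ := by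
    rw [cX_conj K hz u' (hk'.cX_of_comm hz h6)]
    have h9 := cX_sigma hp M.toCoxeterSystem hσ' F' hz ((ε : ℤ) • dv hp 3 v w)
    rw [hτt, hg', map_smul, smul_smul, ← Units.val_mul, Int.units_mul_self, Units.val_one, one_smul, hX.zsmul, ← hδ,
      ← zpow_natCast, ← zpow_mul] at h9
    rw [h9]
    have h10 : ¬ (3 : ℤ) ∣ ε * (p ^ e : ℕ) := fun h => by
      have h11 : (3 : ℤ) ∣ (p ^ e : ℕ) := by
        rcases Int.units_eq_one_or ε with rfl | rfl
        · simpa using h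
        · simpa using h
      have h12 : 3 ∣ p ^ e := by exact_mod_cast h11
      exact hrp ((Nat.prime_dvd_prime_iff_eq Nat.prime_three Fact.out).1 (Nat.prime_three.dvd_of_dvd_pow h12))
    obtain ⟨j, hj⟩ : (3 : ℤ) ∣ ε * (p ^ e : ℕ) + 1 := by omega
    have e4 : (ε : ℤ) * (p ^ e : ℕ) = 3 * j + -1 := by linear_combination hj
    rw [e4, zpow_add₀ hδ0, zpow_mul, zpow_ofNat, hδ3, one_zpow, one_mul, zpow_neg_one]
  -- `k * τ k` lies in the connected centraliser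
  have h9 : k * τ k ∈ DZ hp p {t} := del K hrp hz ht3 (hk.mul hk') (by rw [mul_assoc, h6, ← mul_assoc, h5, mul_assoc])
    (by rw [del_mul K hz (hk.cX_of_comm hz h5), h8, ← hδ, mul_inv_cancel₀ hδ0])
  have h10 : k ^ 2 ∈ DZ hp p {t} := by
    have e5 : k ^ 2 = k * (k * (τ k)⁻¹) * k⁻¹ * (k * τ k) := by rw [pow_two]; group
    rw [e5]
    exact mul_mem (conj_mem_DZ (Set.finite_singleton t) hZ h3 h7) h9
  obtain ⟨j, hj⟩ := exists_pow_mem_DZ (hp := hp) (Set.finite_singleton t) hZ Nat.prime_three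
    (fun a ha => ⟨1, by rw [ha, pow_one, ht3]⟩) h3
  exact hkD (mem_of_pow_coprime h10 hj (Nat.Coprime.pow_right j (by norm_num)))

end Cfsg.Agent.TH.Ab.ZC
end

-- part: TH/Ex/Ab/ZCAlg
section
prune_inst 0x15000404022020000180506100038068600000000630c00ac20010401c88f22ed0727410d2030010800a8482031006002000050426800000e0004004005050100a81206a148a10020009e801086400000000000000000000000000000000000200000002
set_option linter.all false
open scoped Cfsg.Agent.FastGrp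

/-!
# S3541, box ZC: elementary abelian groups normalised by `Q / n P` (helper97)

`h β` is the element of the torus with the character `ζ ^ (β, ·)`, `ζ` of order `n`.  An elementary abelian `r`-group `R`
normalised (nilpotently) by the elements `h β` normalises the torus, its image in `W` is `{1}` or `{1, z, z⁻¹}` with
`z + z⁻¹ = 2 - n`, and `x = h (z β - β)` is toral with all the elements of `R` (`main_alg`).
-/

set_option autoImplicit false
set_option linter.unusedSectionVars false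

namespace Cfsg.Agent.TH.Ab.ZC

open CoxeterSystem Cfsg Cfsg.Lie Cfsg.Lie.ChevalleyDatum
open Cfsg.Agent.ChevalleyStructure Cfsg.Agent.ChevalleyStructure.Elts Cfsg.Agent.ChevalleyStructure.CoxeterGeom
  Cfsg.Agent.ChevalleyStructure.CoxeterGeomTypes
open Cfsg.Agent.Tits.Roots Cfsg.Agent.Tits.Core Cfsg.Agent.Nodes Cfsg.Agent.Nodes.Reps Cfsg.Agent.Nodes.BNOf
  Cfsg.Agent.Nodes.RGDChev Cfsg.Agent.Nodes.Bruhat
open Cfsg.Agent.KFacts.RgdField Cfsg.Agent.KFacts.RgdChevCoord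
open Cfsg.Agent.BpExc Cfsg.Agent.BpExc.TorCent Cfsg.Agent.BpExc.TorChev Cfsg.Agent.BpExc.Tow
  Cfsg.Agent.BpExc.TowChev Cfsg.Agent.BpExc.Fr Cfsg.Agent.BpExc.LangFr
open Cfsg.Agent.H469.Exc Cfsg.Agent.H795.SetCent Cfsg.Agent.H129.TorusChar Cfsg.Agent.H129.WData Cfsg.Agent.DS.Ex
open Cfsg.Agent.H185.EE Cfsg.Agent.H931.KC Cfsg.Agent.DS.Nt Cfsg.Agent.DS.Ex.Tor
open Cfsg.Agent.H92.NE (bl)

variable {D : ChevalleyDatum} {l : ℕ} {M : CoxeterMatrix (Fin l)} {hp : IsType D l M} {p : ℕ} [Fact p.Prime]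
  {r n : ℕ} {Bm : Mat l} {v : Fin l → ℤ}

/-- no root is trivial on the kernel -/
theorem no_root (K : KD D l r n Bm v) {a : Fin l → ℤ} (ha : Rt hp a) {φ : (Fin l → ℤ) → M.Group}
    (hφ : ∀ β β', φ (β + β') = φ β * φ β') (h1 : ∀ β, φ β = 1 → (n : ℤ) ∣ bl Bm β a) (h2 : ∀ β, φ β ^ r = 1)
    (h3 : (∀ β, φ β = 1) ∨ ∃ z, Nz hp n z ∧ (∀ β, φ β = 1 ∨ φ β = z ∨ φ β = z⁻¹) ∧ ∀ β, φ β = 1 → φ (wa hp z⁻¹ β) = 1) :
    False := by
  obtain ⟨b, hb⟩ := K.exists_neg ha
  have hb1 : φ b ≠ 1 := fun h => by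
    have h4 := h1 b h
    rw [hb, dvd_neg] at h4
    have h5 := Int.le_of_dvd one_pos h4
    have h6 := K.n_ge
    omega
  rcases h3 with h3 | ⟨z, hz, h3, h4⟩
  · exact hb1 (h3 b)
  rcases K.num with ⟨rfl, rfl, -⟩ | ⟨rfl, rfl, -⟩
  · have h5 : ∀ β, φ β = 1 → (3 : ℤ) ∣ bl Bm β a ∧ (3 : ℤ) ∣ bl Bm β (wa hp z a) := fun β h => by
      have h6 := h1 _ (h4 β h)
      rw [K.adjt, inv_inv] at h6
      exact ⟨h1 β h, h6⟩
    have h6 : ∀ β, φ β = 1 ∨ φ (β - b) = 1 ∨ φ (β + b) = 1 := fun β => by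
      have h7 := hφ (β - b) b
      rw [sub_add_cancel] at h7
      have h8 : φ β = φ b → φ (β - b) = 1 := fun h => by
        rw [h] at h7
        exact (mul_eq_right.1 h7.symm)
      rcases h3 β with h9 | h9 | h9
      · exact Or.inl h9
      · rcases (h3 b).resolve_left hb1 with h10 | h10
        · exact Or.inr (Or.inl (h8 (h9.trans h10.symm)))
        · exact Or.inr (Or.inr (by rw [hφ, h9, h10, mul_inv_cancel]))
      · rcases (h3 b).resolve_left hb1 with h10 | h10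
        · exact Or.inr (Or.inr (by rw [hφ, h9, h10, inv_mul_cancel]))
        · exact Or.inr (Or.inl (h8 (h9.trans h10.symm)))
    have h7 : ∀ β, (3 : ℤ) ∣ bl Bm β (wa hp z a) + bl Bm b (wa hp z a) * bl Bm β a := fun β => by
      rcases h6 β with h8 | h8 | h8
      · exact dvd_add (h5 _ h8).2 (Dvd.dvd.mul_left (h5 _ h8).1 _)
      · obtain ⟨⟨c, hc⟩, ⟨d, hd⟩⟩ := h5 _ h8
        rw [K.sub_left] at hc hd
        rw [hb] at hc
        exact ⟨d + bl Bm b (wa hp z a) * c, by linear_combination hd + bl Bm b (wa hp z a) * hc⟩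
      · obtain ⟨⟨c, hc⟩, ⟨d, hd⟩⟩ := h5 _ h8
        rw [K.add_left] at hc hd
        rw [hb] at hc
        exact ⟨d + bl Bm b (wa hp z a) * c, by linear_combination hd + bl Bm b (wa hp z a) * hc⟩
    have h8 := K.nz_form hz a a
    rw [K.sub_left, map_sub, map_sub, K.inv, K.root ha, K.symm (wa hp z a) a] at h8
    have h9 := h7 a
    rw [K.root ha] at h9
    push_cast at h8
    obtain ⟨c, hc⟩ : (3 : ℤ) ∣ bl Bm b (wa hp z a) + 1 := by omega
    refine K.nz_ne hz ha (K.sep' ha (ha.act z) fun y => ?_)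
    obtain ⟨d, hd⟩ := h7 y
    rw [K.symm, map_sub]
    exact ⟨d - c * bl Bm y a, by
      change bl Bm y (wa hp z a) - _ = _
      push_cast
      linear_combination hd - bl Bm y a * hc⟩
  · have h5 := h1 (b + b) (by rw [hφ, ← pow_two, h2])
    rw [K.add_left, hb] at h5
    norm_num at h5

variable (hp) in
/-- the elements `h β` -/
structure HT (n : ℕ) (Bm : Mat l) (ζ : KK p) (h : (Fin l → ℤ) → YY D p) : Prop where
  prim : IsPrimitiveRoot ζ n
  ne : ζ ≠ 0
  mem : ∀ β, h β ∈ TT D (KK p)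
  chr : ∀ β a, cX hp (h β) a = ζ ^ bl Bm β a

theorem exists_HT (hD : Typ D) {ζ : KK p} (hζ : IsPrimitiveRoot ζ n) (hn : n ≠ 0) : ∃ h, HT hp n Bm ζ h := by
  choose h h1 h2 using fun β => exists_tor_zpow hp hD (hζ.ne_zero hn) (bl Bm β)
  exact ⟨h, hζ, hζ.ne_zero hn, h1, h2⟩

namespace HT

variable {ζ : KK p} {h : (Fin l → ℤ) → YY D p} (H : HT hp n Bm ζ h) (K : KD D l r n Bm v)
include H K

theorem add (β β' : Fin l → ℤ) : h (β + β') = h β * h β' :=
  cX_inj hp (H.mem _) (mul_mem (H.mem _) (H.mem _)) fun i => by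
    rw [cX_mul hp (H.mem _) (H.mem _), H.chr, H.chr, H.chr, K.add_left, zpow_add₀ H.ne]

theorem sub (β β' : Fin l → ℤ) : h (β - β') = h β * (h β')⁻¹ := by
  rw [eq_mul_inv_iff_mul_eq, ← H.add K, sub_add_cancel]

theorem conj {w : M.Group} {k : YY D p} (hk : RP hp p w k) (β : Fin l → ℤ) : k * h β * k⁻¹ = h (wa hp w β) :=
  cX_inj hp (hk.conj_mem (H.mem _)) (H.mem _) fun i => by
    have h1 := hk.cX (H.mem β) (wa hp w⁻¹ (sr i))
    rw [rep_apply_inv] at h1
    rw [h1, H.chr, H.chr, K.adjt]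

theorem dvd_of_pow {β : Fin l → ℤ} {m : ℕ} (h1 : h β ^ m = 1) (a : Fin l → ℤ) : (n : ℤ) ∣ m * bl Bm β a := by
  have h2 := cX_pow hp (H.mem β) m a
  rw [h1, cX_one, H.chr, ← zpow_natCast, ← zpow_mul, eq_comm, H.prim.zpow_eq_one_iff_dvd] at h2
  rwa [mul_comm]

theorem dvd {β : Fin l → ℤ} (h1 : h β = 1) (a : Fin l → ℤ) : (n : ℤ) ∣ bl Bm β a := by
  have h2 := H.dvd_of_pow K (m := 1) (by rw [pow_one, h1]) a
  rwa [Nat.cast_one, one_mul] at h2

theorem pow (β : Fin l → ℤ) : h β ^ n = 1 := pow_eq_one_of_cX (hp := hp) (H.mem β) fun a => by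
  rw [H.chr, ← zpow_natCast, ← zpow_mul, mul_comm, zpow_mul, zpow_natCast, H.prim.pow_eq_one, one_zpow]

variable {R : Subgroup (YY D p)} (hc : ∀ x ∈ R, ∀ y ∈ R, x * y = y * x) (hr : ∀ x ∈ R, x ^ r = 1)
  (hn : ∀ β, ∀ y ∈ R, h β * y * (h β)⁻¹ ∈ R)

include hn in
theorem comm_mem {y : YY D p} (hy : y ∈ R) (β : Fin l → ℤ) : y * h β * y⁻¹ * (h β)⁻¹ ∈ R := by
  have e : y * h β * y⁻¹ * (h β)⁻¹ = y * (h β * y⁻¹ * (h β)⁻¹) := by group
  rw [e]
  exact mul_mem hy (hn β _ (inv_mem hy))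

include hn in
theorem mem_R {y : YY D p} (hy : y ∈ R) {w : M.Group} (hw : RP hp p w y) (β : Fin l → ℤ) : h (wa hp w β - β) ∈ R := by
  rw [H.sub K, ← H.conj K hw]
  exact H.comm_mem K hn hy β

include hc hr hn

theorem quad {y : YY D p} (hy : y ∈ R) {w : M.Group} (hw : RP hp p w y) : w = 1 ∨ Nz hp n w := by
  refine K.quad (fun β => H.dvd K ?_) fun β => H.dvd_of_pow K (hr _ (H.mem_R K hn hy hw β))
  have h1 := H.conj K hw.inv (wa hp w β - β)
  rw [hc _ (inv_mem hy) _ (H.mem_R K hn hy hw β), mul_inv_cancel_right, map_sub, rep_inv_apply] at h1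
  have e : β + β - wa hp w β - wa hp w⁻¹ β = (β - wa hp w⁻¹ β) - (wa hp w β - β) := by abel
  rw [e, H.sub K, ← h1, mul_inv_cancel]

theorem cyc : (∀ y ∈ R, ∀ w, RP hp p w y → w = 1) ∨ ∃ y₀ ∈ R, ∃ z, RP hp p z y₀ ∧ Nz hp n z ∧
    ∀ y ∈ R, ∀ w, RP hp p w y → w = 1 ∨ w = z ∨ w = z⁻¹ := by
  by_cases h0 : ∀ y ∈ R, ∀ w, RP hp p w y → w = 1
  · exact Or.inl h0
  push Not at h0
  obtain ⟨y₀, h1, z, h2, h3⟩ := h0
  have h4 := (H.quad K hc hr hn h1 h2).resolve_left h3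
  refine Or.inr ⟨y₀, h1, z, h2, h4, fun y hy w hw => K.cyc h4 ?_ (H.quad K hc hr hn hy hw)
    (H.quad K hc hr hn (mul_mem h1 hy) (h2.mul hw)) (H.quad K hc hr hn (mul_mem h1 (inv_mem hy)) (h2.mul hw.inv))⟩
  have h5 := hw.mul h2
  rw [hc y hy y₀ h1] at h5
  exact (h2.mul hw).unique h5

/-- the induction step -/
theorem step (hfin : (Set.range h).Finite) {u : YY D p} (hu : u ∈ R)
    (h0 : ∀ β, ∃ w, RP hp p w (u * h β * u⁻¹ * (h β)⁻¹)) : ∃ w, RP hp p w u := by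
  choose φ hφ using h0
  have h1 : ∀ β, RP hp p (φ β) (u * h β * u⁻¹) := fun β => by
    have h2 := (hφ β).mul (RP.of_mem (hp := hp) (H.mem β))
    rwa [mul_one, inv_mul_cancel_right] at h2
  have h2 : ∀ β β', φ (β + β') = φ β * φ β' := fun β β' => by
    refine (h1 _).unique ?_
    have e : u * h (β + β') * u⁻¹ = (u * h β * u⁻¹) * (u * h β' * u⁻¹) := by rw [H.add K]; group
    rw [e]
    exact (h1 β).mul (h1 β')
  have h3 : ∀ β, φ β = 1 ↔ u * h β * u⁻¹ ∈ TT D (KK p) := fun β =>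
    ⟨fun h4 => (h4 ▸ h1 β : RP hp p 1 _).mem_T, fun h4 => (h1 β).unique (RP.of_mem h4)⟩
  have hf : Finite {b : YY D p // b ∈ Set.range h ∧ u * b * u⁻¹ ∈ TT D (KK p)} :=
    (hfin.subset fun _ hb => hb.1 : {b : YY D p | b ∈ Set.range h ∧ u * b * u⁻¹ ∈ TT D (KK p)}.Finite)
  have hs : ∀ i : {b : YY D p // b ∈ Set.range h ∧ u * b * u⁻¹ ∈ TT D (KK p)}, i.1 ∈ TT D (KK p) := by
    rintro ⟨_, ⟨β, rfl⟩, _⟩
    exact H.mem β
  obtain ⟨m, hm, w, k, hk, h4, h5⟩ := form₂ hp (ι := {b : YY D p // b ∈ Set.range h ∧ u * b * u⁻¹ ∈ TT D (KK p)})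
    (s := fun i => i.1) (t := fun i => u * i.1 * u⁻¹) hs (fun i => i.2.2) (c := u) (fun i => by group)
  have h6 : m ∈ (⊥ : Subgroup (YY D p)) := Mz_le (fun a ha => by
    exfalso
    have h7 := (mem_Ps (by rintro _ ⟨i, rfl⟩; exact i.2.2)).1 ha
    refine no_root (hp := hp) K (h7.1.act w⁻¹) h2 (fun β hβ => ?_) (fun β => ?_) ?_
    · have h8 := h7.2 _ ⟨⟨h β, ⟨β, rfl⟩, (h3 β).1 hβ⟩, rfl⟩
      have h9 : u * h β * u⁻¹ = k * h β * k⁻¹ := by
        rw [h4 ⟨h β, ⟨β, rfl⟩, (h3 β).1 hβ⟩, mul_inv_cancel_right]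
      change cX hp (u * h β * u⁻¹) a = 1 at h8
      rw [h9, H.conj K hk, H.chr, H.prim.zpow_eq_one_iff_dvd, K.adjt] at h8
      exact h8
    · have h8 := (hφ β).pow r
      rw [hr _ (H.comm_mem K hn hu β)] at h8
      exact h8.unique (RP.of_mem (one_mem _))
    · rcases H.cyc K hc hr hn with h8 | ⟨y₀, h8, z, h9, h10, h11⟩
      · exact Or.inl fun β => h8 _ (H.comm_mem K hn hu β) _ (hφ β)
      · refine Or.inr ⟨z, h10, fun β => h11 _ (H.comm_mem K hn hu β) _ (hφ β), fun β hβ => (h3 _).2 ?_⟩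
        have e : u * (y₀⁻¹ * h β * y₀⁻¹⁻¹) * u⁻¹ = y₀⁻¹ * (u * h β * u⁻¹) * y₀⁻¹⁻¹ := by
          calc u * (y₀⁻¹ * h β * y₀⁻¹⁻¹) * u⁻¹ = (u * y₀⁻¹) * h β * (u * y₀⁻¹)⁻¹ := by group
            _ = (y₀⁻¹ * u) * h β * (y₀⁻¹ * u)⁻¹ := by rw [hc u hu _ (inv_mem h8)]
            _ = _ := by group
        rw [← H.conj K h9.inv, e]
        exact h9.inv.conj_mem ((h3 β).1 hβ)) hm
  rw [Subgroup.mem_bot.1 h6, one_mul] at h5
  exact ⟨w, h5 ▸ hk⟩

/-- **The algebraic statement.** -/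
theorem main_alg (hrp : r ≠ p) (hfin : (Set.range h).Finite) (hne : R ≠ ⊥)
    (hind : ∀ S : Set (YY D p), 1 ∈ S → (∀ u ∈ R, (∀ β, u * h β * u⁻¹ * (h β)⁻¹ ∈ S) → u ∈ S) → ∀ u ∈ R, u ∈ S) :
    ∃ x ∈ R, x ≠ 1 ∧ ∀ y ∈ R, Tp p y x := by
  have hN : ∀ u ∈ R, ∃ w, RP hp p w u := hind {u | ∃ w, RP hp p w u} ⟨1, RP.of_mem (one_mem _)⟩ fun u hu h0 =>
    H.step K hc hr hn hfin hu h0
  rcases H.cyc K hc hr hn with h1 | ⟨y₀, h1, z, h2, h3, h4⟩
  · have h2 : ∀ u ∈ R, (1 : YY D p) * u * 1⁻¹ ∈ TT D (KK p) := fun u hu => by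
      obtain ⟨w, hw⟩ := hN u hu
      rw [h1 u hu w hw] at hw
      rw [one_mul, inv_one, mul_one]
      exact hw.mem_T
    obtain ⟨⟨x, hx⟩, h3⟩ := Subgroup.ne_bot_iff_exists_ne_one.1 hne
    exact ⟨x, hx, fun h => h3 (Subtype.ext h), fun y hy => ⟨1, h2 y hy, h2 x hx⟩⟩
  · have ha : Rt hp (sr ⟨0, K.pos⟩) := isRoot_sr _ _ _
    set a : Fin l → ℤ := sr ⟨0, K.pos⟩
    have hx := H.mem_R K hn h1 h2 a
    have hxT := H.mem (wa hp z a - a)
    have h5 : y₀ ∈ DZ hp p {h (wa hp z a - a)} := del K hrp hxT (hr _ hx) h2 (hc _ h1 _ hx) (by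
      rw [H.chr, H.prim.zpow_eq_one_iff_dvd]
      exact K.dv_nz h3 a)
    refine ⟨_, hx, fun h6 => K.nz_ne h3 ha (K.sep' ha (ha.act z) (H.dvd K h6)), fun y hy => Tp.symm
      (tp_of_mem_DZ (hp := hp) K.prime hrp hxT ⟨1, by rw [pow_one, hr _ hx]⟩ ?_ ⟨1, by rw [pow_one, hr _ hy]⟩)⟩
    obtain ⟨w, hw⟩ := hN y hy
    rcases h4 y hy w hw with rfl | rfl | rfl
    · exact T_le_DZ hw.mem_T
    · have h6 := hw.mul h2.inv
      rw [mul_inv_cancel] at h6
      have e : y = y * y₀⁻¹ * y₀ := by group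
      rw [e]
      exact mul_mem (T_le_DZ h6.mem_T) h5
    · have h6 := hw.mul h2
      rw [inv_mul_cancel] at h6
      have e : y = y * y₀ * y₀⁻¹ := by group
      rw [e]
      exact mul_mem (T_le_DZ h6.mem_T) (inv_mem h5)

end HT

end Cfsg.Agent.TH.Ab.ZC

private theorem dce_300769f4be34 : _root_.True := by
  try have : _root_.True := by simp only [_root_.Cfsg.Agent.DS.Nt.RP.congr_simp]
  exact _root_.True.intro
end

-- part: TH/Ex/Ab/ZCMain
section
prune_inst 0x1500040002202000018050610003a06a200009000030c019c60000400829e226d03264105203801081088482031006002000010427000000e0004004005050100aa5206b348a10444009e803082400000000000000000000000000000041000200000002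
set_option linter.all false
open scoped Cfsg.Agent.FastGrp

/-!
# S3541, box ZC (helper97)

* `exists_frame` : if `σ` acts on the lattice as `ε u` and `n ∣ ε q - 1`, a conjugate of the group `{h β}` lies in `T`;
* `nil_ind` : induction along the upper central series;
* `boxZC`.
-/

set_option autoImplicit false
set_option linter.unusedSectionVars false

namespace Cfsg.Agent.TH.Ab

open CoxeterSystem Cfsg Cfsg.Lie Cfsg.Lie.ChevalleyDatum
open Cfsg.Agent.ChevalleyStructure Cfsg.Agent.ChevalleyStructure.Elts Cfsg.Agent.ChevalleyStructure.CoxeterGeom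
  Cfsg.Agent.ChevalleyStructure.CoxeterGeomTypes
open Cfsg.Agent.Tits.Roots Cfsg.Agent.Tits.Core Cfsg.Agent.Nodes Cfsg.Agent.Nodes.Reps Cfsg.Agent.Nodes.BNOf
  Cfsg.Agent.Nodes.RGDChev Cfsg.Agent.Nodes.Bruhat
open Cfsg.Agent.KFacts.RgdField Cfsg.Agent.KFacts.RgdChevCoord
open Cfsg.Agent.BpExc Cfsg.Agent.BpExc.TorCent Cfsg.Agent.BpExc.TorChev Cfsg.Agent.BpExc.Tow
  Cfsg.Agent.BpExc.TowChev Cfsg.Agent.BpExc.Fr Cfsg.Agent.BpExc.LangFr
open Cfsg.Agent.H469.Exc Cfsg.Agent.H795.SetCent Cfsg.Agent.H129.TorusChar Cfsg.Agent.H129.WData Cfsg.Agent.DS.Ex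
open Cfsg.Agent.H185.EE Cfsg.Agent.H931.KC Cfsg.Agent.DS.Nt Cfsg.Agent.DS.Ex.Tor
open Cfsg.Agent.H92.NE (bl)
open Cfsg.Agent.SB.Exc (XF)

namespace ZC

/-- induction along the upper central series -/
theorem nil_ind {G : Type*} [Group G] [Finite G] {r : ℕ} [Fact r.Prime] {P R : Subgroup G} (hP : IsPGroup r P) (hR : R ≤ P)
    (hn : ∀ a ∈ P, ∀ x ∈ R, a * x * a⁻¹ ∈ R) {S : Set G} (h1 : 1 ∈ S)
    (hS : ∀ u ∈ R, (∀ a ∈ P, u * a * u⁻¹ * a⁻¹ ∈ S) → u ∈ S) : ∀ u ∈ R, u ∈ S := by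
  have key : ∀ (m : ℕ) (u : P), u ∈ Subgroup.upperCentralSeries P m → (u : G) ∈ R → (u : G) ∈ S := by
    intro m
    induction m with
    | zero =>
      intro u hu _
      rw [Subgroup.upperCentralSeries_zero, Subgroup.mem_bot] at hu
      rw [hu]
      exact h1
    | succ m ih =>
      intro u hu huR
      refine hS u huR fun a ha => ih _ (Subgroup.mem_upperCentralSeries_succ_iff.1 hu ⟨a, ha⟩) ?_
      show (u : G) * a * (u : G)⁻¹ * a⁻¹ ∈ R
      have e : (u : G) * a * (u : G)⁻¹ * a⁻¹ = u * (a * (u : G)⁻¹ * a⁻¹) := by group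
      rw [e]
      exact mul_mem huR (hn a ha _ (inv_mem huR))
  obtain ⟨m, hm⟩ := hP.isNilpotent.nilpotent
  intro u hu
  exact key m ⟨u, hR hu⟩ (hm ▸ Subgroup.mem_top _) hu

theorem exists_conj_le {G : Type*} [Group G] [Finite G] {r : ℕ} [Fact r.Prime] {P B : Subgroup G} (hP : IsPGroup r P)
    (hi : ¬ r ∣ P.index) (hB : IsPGroup r B) : ∃ c : G, ∀ b ∈ B, c * b * c⁻¹ ∈ P := by
  obtain ⟨Q, hQ⟩ := hB.exists_le_sylow
  obtain ⟨c, hc⟩ := MulAction.exists_smul_eq G Q (hP.toSylow hi)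
  refine ⟨c, fun b hb => ?_⟩
  have h1 : c * b * c⁻¹ ∈ (c • Q : Sylow r G) := by
    rw [Sylow.smul_def]
    exact Subgroup.smul_mem_pointwise_smul b (MulAut.conj c) (Q : Subgroup G) (hQ hb)
  rw [hc] at h1
  exact h1

variable {D : ChevalleyDatum} {l : ℕ} {M : CoxeterMatrix (Fin l)} {hp : IsType D l M} {p : ℕ} [Fact p.Prime]
  {r n : ℕ} {Bm : Mat l} {v : Fin l → ℤ}

/-- **The frame.** -/
theorem exists_frame (hD : Typ D) (K : KD D l r n Bm v) {ζ : KK p} {h : (Fin l → ℤ) → YY D p} (H : HT hp n Bm ζ h) {e : ℕ}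
    {σ : MulAut (YY D p)} {g : (Fin l → ℤ) ≃+ (Fin l → ℤ)} (he : 0 < e) (hσ : IsFrob p e σ) (F : FR hp p σ g) {ε : ℤˣ}
    {u : M.Group} (hg : ∀ a, g a = (ε : ℤ) • wa hp u a) (hq : (n : ℤ) ∣ ε * (p ^ e : ℕ) - 1) {J : Subgroup (YY D p)}
    (hJ1 : ∀ y, σ y = y → ∀ x ∈ J, y * x * y⁻¹ ∈ J) (hJ2 : ∀ y, σ y = y → y ^ r ∈ J) :
    ∃ z : YY D p, ∀ β, z * h β * z⁻¹ ∈ J := by
  obtain ⟨k, hk⟩ := exists_RP hp p u⁻¹
  obtain ⟨z, hz⟩ := lang_all hp M.toCoxeterSystem he hσ F 1 k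
  rw [map_one, one_mul] at hz
  have F' : FR hp p (MulAut.conj k * σ) _ := hk.fr.mul F
  have hσ' : IsFrob p e (MulAut.conj k * σ) := hσ.conj_mul k
  set τ := MulAut.conj k * σ with hτ
  have hg' : ∀ a, (g.trans (repAut M.toCoxeterSystem hp.isCartan u⁻¹)) a = (ε : ℤ) • a := fun a => by
    show wa hp u⁻¹ (g a) = _
    rw [hg, map_smul, rep_inv_apply]
  have hfix : ∀ y, τ y = y → σ (z * y * z⁻¹) = z * y * z⁻¹ := fun y hy => by
    have h1 : k * σ y * k⁻¹ = y := hy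
    rw [map_mul, map_mul, map_inv]
    conv_rhs => rw [← h1, hz]
    group
  let J' : Subgroup (YY D p) := J.comap (MulAut.conj z).toMonoidHom
  have hJ : ∀ y, y ∈ J' ↔ z * y * z⁻¹ ∈ J := fun y => Iff.rfl
  have h1 : ∀ y, τ y = y → ∀ x ∈ J', y * x * y⁻¹ ∈ J' := fun y hy x hx => by
    have h2 := hJ1 _ (hfix y hy) _ ((hJ x).1 hx)
    have e1 : z * y * z⁻¹ * (z * x * z⁻¹) * (z * y * z⁻¹)⁻¹ = z * (y * x * y⁻¹) * z⁻¹ := by group
    rw [e1] at h2
    exact (hJ _).2 h2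
  have h2 : ∀ y, τ y = y → y ^ r ∈ J' := fun y hy => by
    have h3 := hJ2 _ (hfix y hy)
    rw [conj_pow] at h3
    exact (hJ _).2 h3
  have h3 : ∀ β, τ (h β) = h β := fun β => cX_inj hp ((F'.tor _).2 (H.mem β)) (H.mem β) fun i => by
    have h4 := cX_sigma hp M.toCoxeterSystem hσ' F' (H.mem β) ((ε : ℤ) • sr i)
    rw [hg', smul_smul, ← Units.val_mul, Int.units_mul_self, Units.val_one, one_smul] at h4
    rw [h4, H.chr, H.chr, ← zpow_natCast, ← zpow_mul]
    refine zpow_congr H.prim (by have := K.n_ge; omega) ?_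
    obtain ⟨c, hc⟩ := hq
    rw [map_zsmul, smul_eq_mul]
    exact ⟨c * bl Bm β (sr i), by linear_combination bl Bm β (sr i) * hc⟩
  obtain ⟨d, B, hB, hd⟩ := exists_invC hp hD
  have h4 : ∀ i, h (sr i) ∈ J' := fun i => by
    obtain ⟨m, hm, hτm⟩ := H795.LangT.exists_fixed_lift hp (locFin p) hB hd he hσ' F' (v := M.toCoxeterSystem.simple i)
      (fun x => by rw [hg', hg', map_smul])
    have hm' : RP hp p (M.toCoxeterSystem.simple i) m := hm
    obtain ⟨β, hβ⟩ := K.exists_neg (hp := hp) (isRoot_sr _ _ i)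
    have h5 : ∀ m', RP hp p (M.toCoxeterSystem.simple i) m' → h (sr i) = m' * h β * m'⁻¹ * (h β)⁻¹ := fun m' hm' => by
      rw [H.conj K hm', ← H.sub K, rep_simple_eq, K.pair, hβ]
      simp
    rcases K.num with ⟨rfl, -⟩ | ⟨rfl, -⟩
    · have h6 := hm'.pow 3
      rw [pow_succ, M.toCoxeterSystem.simple_sq, one_mul] at h6
      have e2 : m ^ 3 * h β * (m ^ 3)⁻¹ * (h β)⁻¹ = m ^ 3 * (h β * (m ^ 3)⁻¹ * (h β)⁻¹) := by group
      rw [h5 _ h6, e2]
      exact mul_mem (h2 m hτm) (h1 _ (h3 β) _ (inv_mem (h2 m hτm)))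
    · have e2 : m * h β * m⁻¹ * (h β)⁻¹ = m ^ 2 * (m⁻¹ * h β) ^ 2 * (h β ^ 2)⁻¹ := by
        simp only [pow_two]
        group
      rw [h5 _ hm', e2]
      exact mul_mem (mul_mem (h2 m hτm) (h2 _ (by rw [map_mul, map_inv, hτm, h3]))) (inv_mem (h2 _ (h3 β)))
  have h0 : h 0 = 1 := by
    have h5 := H.sub K 0 0
    rwa [sub_self, mul_inv_cancel] at h5
  let A : AddSubgroup (Fin l → ℤ) :=
    { carrier := {β | h β ∈ J'}
      zero_mem' := by
        show h 0 ∈ J'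
        rw [h0]
        exact one_mem _
      add_mem' := fun {a b} ha hb => by
        show h (a + b) ∈ J'
        rw [H.add K]
        exact mul_mem ha hb
      neg_mem' := fun {a} ha => by
        show h (-a) ∈ J'
        rw [← zero_sub, H.sub K, h0, one_mul]
        exact inv_mem ha }
  refine ⟨z, fun β => (hJ _).1 ?_⟩
  show β ∈ A
  rw [IsMC.eq_sum_sr β]
  exact sum_mem fun i _ => zsmul_mem (show sr i ∈ A from h4 i) _

/-- **The case `n ∣ ε q - 1`.** -/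
theorem main_split (hD : Typ D) (K : KD D l r n Bm v) (hrp : r ≠ p) {G : Type} [Group G] [Finite G] {ι : G →* YY D p}
    (hι : Function.Injective ι) {e : ℕ} {σ : MulAut (YY D p)} {g : (Fin l → ℤ) ≃+ (Fin l → ℤ)} (he : 0 < e)
    (hσ : IsFrob p e σ) (F : FR hp p σ g) {ε : ℤˣ} {u : M.Group} (hg : ∀ a, g a = (ε : ℤ) • wa hp u a)
    (hq : (n : ℤ) ∣ ε * (p ^ e : ℕ) - 1) (hJ1 : ∀ y, σ y = y → ∀ x, ∃ x', ι x' = y * ι x * y⁻¹)
    (hJ2 : ∀ y, σ y = y → y ^ r ∈ ι.range) {P R : Subgroup G} (hP : IsPGroup r P) (hi : ¬ r ∣ P.index) (hR : R ≤ P)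
    (hn : ∀ a ∈ P, ∀ x ∈ R, a * x * a⁻¹ ∈ R) (hne : R ≠ ⊥) (hc : ∀ x ∈ R, ∀ y ∈ R, x * y = y * x)
    (hr : ∀ x ∈ R, x ^ r = 1) : ∃ x ∈ R, x ≠ 1 ∧ ∀ y ∈ R, Tp p (ι y) (ι x) := by
  have := Fact.mk K.prime
  obtain ⟨j, hj⟩ := K.n_pow
  have : NeZero (n : KK p) := ⟨by rw [hj, Nat.cast_pow]; exact pow_ne_zero _ (cast_ne_zero K.prime hrp)⟩
  obtain ⟨ζ, hζ⟩ := HasEnoughRootsOfUnity.exists_primitiveRoot (KK p) n
  obtain ⟨h, H⟩ := exists_HT (hp := hp) (Bm := Bm) hD hζ (by have := K.n_ge; omega)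
  obtain ⟨z, hz⟩ := exists_frame hD K H he hσ F hg hq (J := ι.range) (by
    rintro y hy _ ⟨x, rfl⟩
    exact hJ1 y hy x) hJ2
  choose b hb using hz
  have hb1 : ∀ β β', b (β - β') = b β * (b β')⁻¹ := fun β β' => hι (by
    rw [map_mul, map_inv, hb, hb, hb, H.sub K]
    group)
  have hb0 : b 0 = 1 := by
    have h5 := hb1 0 0
    rwa [sub_self, mul_inv_cancel] at h5
  let B : Subgroup G :=
    { carrier := Set.range b
      one_mem' := ⟨0, hb0⟩
      mul_mem' := by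
        rintro _ _ ⟨β, rfl⟩ ⟨β', rfl⟩
        exact ⟨β - (0 - β'), by rw [hb1, hb1, hb0, one_mul, inv_inv]⟩
      inv_mem' := by
        rintro _ ⟨β, rfl⟩
        exact ⟨0 - β, by rw [hb1, hb0, one_mul]⟩ }
  have hB : IsPGroup r B := by
    rintro ⟨_, β, rfl⟩
    refine ⟨j, Subtype.ext (hι ?_)⟩
    show ι (b β ^ r ^ j) = ι 1
    rw [map_pow, hb, ← hj, conj_pow, H.pow K, map_one, mul_one, mul_inv_cancel]
  obtain ⟨c, hc'⟩ := exists_conj_le hP hi hB
  -- the conjugate embedding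
  let κ : G →* YY D p := (MulAut.conj (ι c * z)⁻¹).toMonoidHom.comp ι
  have hκ : ∀ x, κ x = (ι c * z)⁻¹ * ι x * (ι c * z)⁻¹⁻¹ := fun x => rfl
  have hκi : Function.Injective κ := (MulAut.conj (ι c * z)⁻¹).injective.comp hι
  have hκb : ∀ β, κ (c * b β * c⁻¹) = h β := fun β => by
    rw [hκ, map_mul, map_mul, map_inv, hb]
    group
  have hP' : ∀ β, c * b β * c⁻¹ ∈ P := fun β => hc' _ ⟨β, rfl⟩
  obtain ⟨_, ⟨x, hx, rfl⟩, h1, h2⟩ := H.main_alg K (R := R.map κ) (by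
      rintro _ ⟨x, hx, rfl⟩ _ ⟨y, hy, rfl⟩
      rw [← map_mul, ← map_mul, hc x hx y hy]) (by
      rintro _ ⟨x, hx, rfl⟩
      rw [← map_pow, hr x hx, map_one]) (by
      rintro β _ ⟨x, hx, rfl⟩
      exact ⟨_, hn _ (hP' β) x hx, by rw [map_mul, map_mul κ _ x, map_inv, hκb]⟩) hrp
    ((Set.finite_range κ).subset (by
      rintro _ ⟨β, rfl⟩
      exact ⟨_, hκb β⟩)) (fun h0 => hne ((Subgroup.map_eq_bot_iff_of_injective R hκi).1 h0)) (by
      rintro S h1 h2 _ ⟨x, hx, rfl⟩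
      refine nil_ind hP hR hn (S := κ ⁻¹' S) (by rwa [Set.mem_preimage, map_one]) (fun y hy h3 => ?_) x hx
      refine h2 _ ⟨y, hy, rfl⟩ fun β => ?_
      have h4 := h3 _ (hP' β)
      rwa [Set.mem_preimage, map_mul, map_mul, map_mul κ y, map_inv, map_inv, hκb] at h4)
  exact ⟨x, hx, fun h3 => h1 (by rw [h3, map_one]), fun y hy => Tp.of_conj (c := (ι c * z)⁻¹) (h2 _ ⟨y, hy, rfl⟩)⟩

end ZC

open ZC in
/-- **[ZC]** -/
theorem boxZC : BoxZC := by
  intro D l M hp tw p _ f r G _ _ T _ _ hDr hrp F P R hP hi hR hn hne hc hr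
  have n67 : chevE6 ≠ chevE7 := fun e => absurd (congrArg ChevalleyDatum.rank e) (by decide)
  obtain ⟨ε, u, hg⟩ : ∃ (ε : ℤˣ) (u : M.Group), ∀ a, F.m.g a = (ε : ℤ) • wa hp u a := by
    obtain ⟨w, h | ⟨-, h⟩⟩ := F.gW
    · exact ⟨1, w, fun a => by rw [h, Units.val_one, one_smul]⟩
    · exact ⟨-1, w, fun a => by rw [h, Units.val_neg, Units.val_one, neg_smul, one_smul]⟩
  have hσ := F.m.frob
  have hF := F.m.fr
  rw [← F.hσ] at hσ hF
  have hpow : ∀ y, F.L.σ y = y → y ^ r ∈ F.L.ι.range := fun y hy => by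
    have h1 := F.L.pow_dd y hy
    rcases F.L.hdd with h2 | ⟨h2, h3⟩ | ⟨h2, h3⟩
    · rw [h2, pow_one] at h1
      exact pow_mem h1 r
    · rcases hDr with ⟨-, rfl⟩ | ⟨h4, -⟩
      · rwa [h3] at h1
      · exact absurd (h2.symm.trans h4) n67
    · rcases hDr with ⟨h4, -⟩ | ⟨-, rfl⟩
      · exact absurd (h4.symm.trans h2) n67
      · rwa [h3] at h1
  rcases hDr with ⟨rfl, rfl⟩ | ⟨rfl, rfl⟩
  · obtain rfl := (typ_l hp).2.1 rfl
    by_cases hq : ((3 : ℕ) : ℤ) ∣ ε * (p ^ F.m.e : ℕ) - 1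
    · exact main_split (Or.inr (Or.inl rfl)) kd6 hrp F.L.inj F.m.he hσ hF hg hq F.L.norm hpow hP hi hR hn hne hc hr
    · obtain ⟨⟨x, hx⟩, h3⟩ := Subgroup.ne_bot_iff_exists_ne_one.1 hne
      refine ⟨x, hx, fun h => h3 (Subtype.ext h), fun y hy => tp_of_fix kd6 hrp hσ hF hg hq (F.L.fix x) (F.L.fix y) ?_ ?_ ?_⟩
      · rw [← map_pow, hr x hx, map_one]
      · rw [← map_pow, hr y hy, map_one]
      · rw [← map_mul, ← map_mul, hc y hy x hx]
  · obtain rfl := (typ_l hp).2.2.1 rfl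
    have hD : Typ chevE7 := Or.inr (Or.inr (Or.inl rfl))
    by_cases hq : ((4 : ℕ) : ℤ) ∣ ε * (p ^ F.m.e : ℕ) - 1
    · exact main_split hD kd7 hrp F.L.inj F.m.he hσ hF hg hq F.L.norm hpow hP hi hR hn hne hc hr
    · obtain ⟨w₀, hw₀⟩ := H900.Fra.neg_E7 hp
      refine main_split (hp := hp) hD kd7 hrp F.L.inj F.m.he hσ hF (ε := -ε) (u := w₀ * u) (fun a => ?_) ?_ F.L.norm hpow hP hi hR hn
        hne hc hr
      · rw [hg, rep_mul_apply, hw₀, Units.val_neg, neg_smul_neg]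
      · have h1 : ¬ 2 ∣ p ^ F.m.e := fun h =>
          hrp ((Nat.prime_dvd_prime_iff_eq Nat.prime_two Fact.out).1 (Nat.prime_two.dvd_of_dvd_pow h))
        generalize p ^ F.m.e = q at hq h1
        rcases Int.units_eq_one_or ε with rfl | rfl
        · simp only [Units.val_neg, Units.val_one] at hq ⊢
          omega
        · simp only [Units.val_neg, Units.val_one] at hq ⊢
          omega

end Cfsg.Agent.TH.Ab
end
end
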